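import Cfsg.Agent.H63.TwoGen.OddRank.Strong
import Cfsg.Agent.H70.FrobQuot

/-!
An element `x` of an elementary subgroup of order `p ^ 2` of a proper subgroup `M` lies in no
proper subgroup outside `M` when `M` controls the centralizers in that plane, the normalizer of
`⟨x⟩` and those of the noncyclic `p`-subgroups of `M`.
-/

set_option autoImplicit false
set_option linter.unusedSectionVars false
set_option linter.style.haveILetI false

namespace Cfsg.Agent.H63.TwoGen.OddRank

open Subgroup
open Cfsg.Agent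
open scoped commutatorElement

universe u

variable {G : Type u} [Group G] [Finite G] {p : ℕ} [hp : Fact p.Prime]

theorem mem_zpowers_of_isCyclic {T : Subgroup G} (hT : IsCyclic T) {x y : G} (hx : x ∈ T)
    (hxo : orderOf x = p) (hy : y ∈ T) (hyp : y ^ p = 1) : y ∈ zpowers x := by
  by_contra hyx
  have hyo : orderOf y = p := orderOf_eq_prime hyp fun h => hyx (h ▸ one_mem _)
  haveI := hT
  letI : CommGroup T := IsCyclic.commGroup
  have hE : Cfsg.IsElementaryAbelian p (zpowers x ⊔ zpowers y : Subgroup G) :=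
    elemAb_sup (elemAb_zpowers (hxo ▸ pow_orderOf_eq_one x)) (elemAb_zpowers hyp) fun a ha b hb =>
      congrArg Subtype.val (mul_comm (⟨a, zpowers_le.mpr hx ha⟩ : T) ⟨b, zpowers_le.mpr hy hb⟩)
  have hlt : zpowers x < zpowers x ⊔ zpowers y :=
    lt_of_le_of_ne le_sup_left fun h => hyx (h ▸ mem_sup_right (mem_zpowers y))
  have hc := card_mul_le (H47.isPGroup_of_elementaryAbelian hE) hlt
  rw [Nat.card_zpowers, hxo, ← pow_two] at hc
  refine Fusion.Signalizer.not_isCyclic_of_elementary hE hc ?_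
  exact isCyclic_of_injective
    (inclusion (sup_le (zpowers_le.mpr hx) (zpowers_le.mpr hy)))
    (inclusion_injective _)

/-- The normalizer of a cyclic subgroup normalizes its subgroup of order `p`. -/
theorem normalizer_le_zpowers {T : Subgroup G} (hT : IsCyclic T) {x : G} (hx : x ∈ T)
    (hxo : orderOf x = p) : normalizer (T : Set G) ≤ normalizer (zpowers x : Set G) := by
  intro n hn
  refine Coprime.mem_normalizer_of_map_conj ?_
  rw [MonoidHom.map_zpowers]
  have ho : orderOf ((MulAut.conj n).toMonoidHom x) = p := by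
    rw [orderOf_injective (MulAut.conj n).toMonoidHom (MulAut.conj n).injective, hxo]
  exact zpowers_eq_of_mem ho hxo (mem_zpowers_of_isCyclic hT hx hxo (Coprime.conj_mem hn hx)
    (ho ▸ pow_orderOf_eq_one _))

variable {M : Subgroup G} {x : G}

theorem le_of_isPGroup (hxo : orderOf x = p) (hxM : x ∈ M)
    (hN : normalizer (zpowers x : Set G) ≤ M)
    (hR : ∀ R : Subgroup G, IsPGroup p R → R ≤ M → ¬ IsCyclic R → normalizer (R : Set G) ≤ M)
    {R : Subgroup G} (hRp : IsPGroup p R) (hxR : x ∈ R) : R ≤ M := by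
  by_contra hc
  have hlt : R ⊓ M < R := lt_of_le_of_ne inf_le_left fun h => hc (h ▸ inf_le_right)
  obtain ⟨y, hyR, hyT, hyn⟩ := exists_normalizer_gt hRp hlt
  refine hyT (mem_inf.mpr ⟨hyR, ?_⟩)
  by_cases hcy : IsCyclic ↥(R ⊓ M)
  · exact hN (normalizer_le_zpowers hcy (mem_inf.mpr ⟨hxR, hxM⟩) hxo hyn)
  · exact hR _ (hRp.to_le inf_le_left) inf_le_right hcy hyn

theorem le_of_plane {E : Subgroup G} (hE : Cfsg.IsElementaryAbelian p E)
    (hEc : Nat.card E = p ^ 2) (hEM : E ≤ M) (hxE : x ∈ E) (hxo : orderOf x = p)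
    (hC : ∀ e ∈ E, e ≠ 1 → centralizer ({e} : Set G) ≤ M)
    (hN : normalizer (zpowers x : Set G) ≤ M)
    (hR : ∀ R : Subgroup G, IsPGroup p R → R ≤ M → ¬ IsCyclic R → normalizer (R : Set G) ≤ M)
    {K : Subgroup G} (hK : Group.IsSolvable K) (hEK : E ≤ K) : K ≤ M := by
  have hcore : Signalizer.core p K ≤ M :=
    H47.le_of_fixed_le hE hEc (hEK.trans (Signalizer.le_normalizer_core K))
      (Signalizer.not_dvd_card_core K) (hEM.trans Subgroup.le_normalizer)
      fun e he h1 => inf_le_right.trans (hC e he h1)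
  obtain ⟨S, hES, hS⟩ := exists_sylowOf_ge hEK (H47.isPGroup_of_elementaryAbelian hE)
  have hSM : S ≤ M := le_of_isPGroup hxo (hEM hxE) hN hR hS.2.1 (hES hxE)
  set R := S ⊓ opp p K with hRdef
  have hnc : ¬ IsCyclic R := fun hc => by
    have h1 : S ≤ R := le_inf le_rfl (le_opp_of_isCyclic hK hS hc)
    refine Fusion.Signalizer.not_isCyclic_of_elementary hE hEc.ge ?_
    haveI := hc
    exact isCyclic_of_injective (inclusion (hES.trans h1)) (inclusion_injective _)
  refine (le_core_sup_normalizer hK hS).trans (sup_le hcore (inf_le_right.trans ?_))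
  exact hR R (hS.2.1.to_le inf_le_left) (inf_le_left.trans hSM) hnc

theorem le_of_invariant (h : Hyp G) {E : Subgroup G}
    (hE : Cfsg.IsElementaryAbelian p E)
    (hEc : Nat.card E = p ^ 2) (hEM : E ≤ M) (hxE : x ∈ E) (hxo : orderOf x = p)
    (hC : ∀ e ∈ E, e ≠ 1 → centralizer ({e} : Set G) ≤ M)
    (hN : normalizer (zpowers x : Set G) ≤ M)
    (hR : ∀ R : Subgroup G, IsPGroup p R → R ≤ M → ¬ IsCyclic R → normalizer (R : Set G) ≤ M)
    {q : ℕ} [hq : Fact q.Prime] (hqp : q ≠ p) :
    ∀ Q : Subgroup G, IsPGroup q Q → x ∈ normalizer (Q : Set G) → Q ≤ M := by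
  intro Q
  induction Q using WellFoundedLT.induction with
  | _ Q IH =>
    intro hQ hxQ
    have hAQ : zpowers x ≤ normalizer (Q : Set G) := zpowers_le.mpr hxQ
    have hcop : (Nat.card (zpowers x)).Coprime (Nat.card Q) := by
      obtain ⟨n, hn⟩ := IsPGroup.iff_card.mp hQ
      rw [Nat.card_zpowers, hxo, hn]
      exact ((Nat.coprime_primes hp.out hq.out).mpr (Ne.symm hqp)).pow_right n
    haveI : Group.IsNilpotent Q := hQ.isNilpotent
    have hQs : Group.IsSolvable (zpowers x) ∨ Group.IsSolvable Q := Or.inr inferInstance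
    have hxn : ∀ {S : Subgroup G}, x ∈ normalizer (S : Set G) →
        zpowers x ≤ normalizer (S : Set G) := fun hS => zpowers_le.mpr hS
    by_cases hlt : ⁅Q, zpowers x⁆ < Q
    · rw [← Coprime.commutator_sup_centralizer hAQ hcop hQs]
      refine sup_le (IH _ hlt (hQ.to_le hlt.le) ?_) (inf_le_right.trans ?_)
      · exact normalizer_commutator_ge_right Q (zpowers x) (mem_zpowers x)
      · refine le_trans ?_ (hC x hxE (elem_ne_one hxo))
        exact Subgroup.centralizer_le (Set.singleton_subset_iff.mpr (mem_zpowers x))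
    -- `J` is generated by the proper invariant subgroups
    set J : Subgroup G := ⨆ S : {S : Subgroup G // S < Q ∧ x ∈ normalizer (S : Set G)},
      (S : Subgroup G) with hJ
    have hJM : J ≤ M := iSup_le fun S => IH _ S.2.1 (hQ.to_le S.2.1.le) S.2.2
    have hJQ : J ≤ Q := iSup_le fun S => S.2.1.le
    have hxJ : x ∈ normalizer (J : Set G) := Coprime.mem_normalizer_of_map_conj (by
      rw [hJ, Subgroup.map_iSup]
      exact iSup_congr fun S => Coprime.map_conj_eq S.2.2)
    by_cases hQJ : Q ≤ J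
    · exact hQJ.trans hJM
    -- some commutator with `x` lies outside `J`
    obtain ⟨v, hv, hvJ⟩ : ∃ v ∈ Q, ⁅v, x⁆ ∉ J := by
      by_contra hc
      push Not at hc
      refine hlt (lt_of_le_of_ne (Coprime.commutator_le_left_of_normalizer hAQ) fun he => hQJ ?_)
      rw [← he]
      refine commutator_le.mpr fun w hw a ha => ?_
      obtain ⟨i, rfl⟩ := mem_powers_iff_mem_zpowers.mpr ha
      show ⁅w, x ^ i⁆ ∈ J
      clear ha
      induction i with
      | zero => simp
      | succ i hi =>
        have e : ⁅w, x ^ (i + 1)⁆ = ⁅w, x⁆ * (x * ⁅w, x ^ i⁆ * x⁻¹) := by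
          simp only [commutatorElement_def, pow_succ']
          group
        rw [e]
        exact mul_mem (hc w hw) (Coprime.conj_mem hxJ hi)
    obtain ⟨c, hc, hcx⟩ := SetLike.not_le_iff_exists.mp
      (not_le_zpowers hEc.ge (hxo ▸ pow_orderOf_eq_one x))
    obtain ⟨K, hK, hxK, -, hcvK, hconj⟩ := h.exists_proper_conj v⁻¹ (mem_zpowers x)
      (show Commute x c from elem_commute hE hxE hc)
    have hdK : ⁅v, x⁆ ∈ K := by
      rw [inv_inv] at hconj
      rw [commutatorElement_def]
      exact mul_mem hconj (inv_mem hxK)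
    have hdQ : ⁅v, x⁆ ∈ Q :=
      Coprime.commutator_le_left_of_normalizer hAQ (commutator_mem_commutator hv (mem_zpowers x))
    have hQK : Q ≤ K := by
      by_contra hQK
      refine hvJ ?_
      have hlt' : Q ⊓ K < Q := lt_of_le_of_ne inf_le_left fun he => hQK (he ▸ inf_le_right)
      refine le_iSup (fun S : {S : Subgroup G // S < Q ∧ x ∈ normalizer (S : Set G)} =>
        (S : Subgroup G)) ⟨Q ⊓ K, hlt', inf_normalizer_le_normalizer_inf
          (mem_inf.mpr ⟨hxQ, Subgroup.le_normalizer hxK⟩)⟩ (mem_inf.mpr ⟨hdQ, hdK⟩)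
    have hcK : c ∈ K := by
      have := mul_mem hcvK (hQK hv)
      rwa [mul_assoc, inv_mul_cancel, mul_one] at this
    have hEK : E ≤ K := by
      have h1 : zpowers x < zpowers x ⊔ zpowers c :=
        lt_of_le_of_ne le_sup_left fun he => hcx (he ▸ mem_sup_right (mem_zpowers c))
      have h2 : zpowers x ⊔ zpowers c ≤ E := sup_le (zpowers_le.mpr hxE) (zpowers_le.mpr hc)
      have h3 := card_mul_le ((H47.isPGroup_of_elementaryAbelian hE).to_le h2) h1
      rw [Nat.card_zpowers, hxo, ← pow_two, ← hEc] at h3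
      rw [← eq_of_le_of_card_ge h2 h3]
      exact sup_le (zpowers_le.mpr hxK) (zpowers_le.mpr hcK)
    exact hQK.trans (le_of_plane hE hEc hEM hxE hxo hC hN hR (h.proper_solvable K hK) hEK)

/-- No such configuration exists. -/
theorem false_of_core (h : Hyp G) (hM : M ≠ ⊤) {E : Subgroup G}
    (hE : Cfsg.IsElementaryAbelian p E)
    (hEc : Nat.card E = p ^ 2) (hEM : E ≤ M) (hxE : x ∈ E) (hx1 : x ≠ 1)
    (hC : ∀ e ∈ E, e ≠ 1 → centralizer ({e} : Set G) ≤ M)
    (hN : normalizer (zpowers x : Set G) ≤ M)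
    (hR : ∀ R : Subgroup G, IsPGroup p R → R ≤ M → ¬ IsCyclic R → normalizer (R : Set G) ≤ M) :
    False := by
  have hxo := elem_order hE hxE hx1
  have hxp : IsPGroup p (zpowers x) :=
    IsPGroup.of_card_dvd_pow (n := 1) (by rw [Nat.card_zpowers, hxo, pow_one])
  refine h.false_of_unique hM (x := x) fun H hH hxH => ?_
  have hHs := h.proper_solvable H hH
  set O := Signalizer.core p H with hO
  have hOn : zpowers x ≤ normalizer (O : Set G) :=
    (zpowers_le.mpr hxH).trans (Signalizer.le_normalizer_core H)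
  have hcop : (Nat.card (zpowers x)).Coprime (Nat.card O) := by
    rw [Nat.card_zpowers, hxo]
    exact hp.out.coprime_iff_not_dvd.mpr (Signalizer.not_dvd_card_core H)
  haveI : Group.IsNilpotent (zpowers x) := hxp.isNilpotent
  have hOM : O ≤ M := by
    refine (H70.card_dvd_of_forall_sylow (D := O ⊓ M) inf_le_left fun r hr hrO => ?_).trans
      inf_le_right
    haveI := Fact.mk hr
    obtain ⟨P, hP⟩ := Coprime.exists_invariant_sylow hOn hcop (Or.inl inferInstance) r
    refine ⟨P, le_inf (map_subtype_le _) ?_⟩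
    exact le_of_invariant h hE hEc hEM hxE hxo hC hN hR
      (fun e => Signalizer.not_dvd_card_core H (e ▸ hrO))
      _ (P.isPGroup'.map _) (hP (mem_zpowers x))
  obtain ⟨S, hxS, hS⟩ := exists_sylowOf_ge (zpowers_le.mpr hxH) hxp
  have hSM : S ≤ M := le_of_isPGroup hxo (hEM hxE) hN hR hS.2.1 (hxS (mem_zpowers x))
  refine (le_core_sup_normalizer hHs hS).trans (sup_le hOM (inf_le_right.trans ?_))
  by_cases hc : IsCyclic ↥(S ⊓ opp p H)
  · exact (normalizer_le_zpowers hc
      (mem_inf.mpr ⟨hxS (mem_zpowers x), le_opp_of_isCyclic hHs hS hc (hxS (mem_zpowers x))⟩)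
      hxo).trans hN
  · exact hR _ (hS.2.1.to_le inf_le_left) (inf_le_left.trans hSM) hc

end Cfsg.Agent.H63.TwoGen.OddRank
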