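import Cfsg.Agent.Signalizer.Solvable
import Cfsg.Agent.H42.InvariantSignalizer
import Cfsg.Agent.H70.FpfSum
import Cfsg.Agent.H47.Generation
import Cfsg.Agent.H41.NormalElementary
import Cfsg.Agent.PGroups.CyclicMaximal
import Cfsg.Agent.H40.Factor

/-!
Facts about a solvable subgroup `K` and an odd prime `p` for the odd rank three part of the
two-generation theorem: the Sylow subgroup of `O_{p',p}`, invariant `p'`-subgroups, transvections.
-/

set_option autoImplicit false
set_option linter.unusedSectionVars false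
set_option linter.style.haveILetI false

namespace Cfsg.Agent.H63.TwoGen.OddRank

open Subgroup
open Cfsg.Agent
open scoped commutatorElement

universe u

variable {G : Type u} [Group G] [Finite G] {p : ℕ} [hp : Fact p.Prime]

/-- `O_{p',p}(K)` inside `G`. -/
def opp (p : ℕ) (K : Subgroup G) : Subgroup G := (Cfsg.pPrimePCore p ↥K).map K.subtype

theorem mem_opp_iff {K : Subgroup G} {x : G} :
    x ∈ opp p K ↔ ∃ hx : x ∈ K,
      (QuotientGroup.mk' (Cfsg.pPrimeCore p ↥K)) ⟨x, hx⟩ ∈
        Cfsg.pCore p (↥K ⧸ Cfsg.pPrimeCore p ↥K) :=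
  ⟨fun ⟨y, hy, hxy⟩ => hxy ▸ ⟨y.2, hy⟩, fun ⟨hx, h⟩ => ⟨⟨x, hx⟩, h, rfl⟩⟩

theorem opp_le (K : Subgroup G) : opp p K ≤ K := map_subtype_le _

theorem core_le_opp (K : Subgroup G) : Signalizer.core p K ≤ opp p K :=
  Subgroup.map_mono Cores.pPrimeCore_le_pPrimePCore

theorem le_normalizer_opp (K : Subgroup G) : K ≤ normalizer (opp p K : Set G) :=
  le_normalizer.trans (Components.le_normalizer_map_characteristic _ le_rfl)

/-- Normalizers grow in a `p`-subgroup. -/
theorem exists_normalizer_gt {T R : Subgroup G} (hR : IsPGroup p R) (h : T < R) :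
    ∃ x ∈ R, x ∉ T ∧ x ∈ normalizer (T : Set G) := by
  have hne : T.subgroupOf R ≠ ⊤ := fun he => not_le_of_gt h (Subgroup.subgroupOf_eq_top.mp he)
  obtain ⟨x, hxn, hx⟩ := SetLike.exists_of_lt (PGroups.lt_normalizer hR hne)
  refine ⟨x, x.2, fun hxT => hx hxT, mem_normalizer_iff.mpr fun y => ?_⟩
  refine ⟨fun hy => (mem_normalizer_iff.mp hxn ⟨y, h.le hy⟩).mp hy, fun hy => ?_⟩
  have hyR : y ∈ R := by
    have h1 := mul_mem (mul_mem (inv_mem x.2) (h.le hy)) x.2
    simpa [mul_assoc] using h1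
  exact (mem_normalizer_iff.mp hxn ⟨y, hyR⟩).mpr hy

/-- A `p`-subgroup lies in a Sylow subgroup. -/
theorem exists_sylowOf_ge {K U : Subgroup G} (hUK : U ≤ K) (hU : IsPGroup p U) :
    ∃ T, U ≤ T ∧ H40.IsSylowOf p T K := by
  obtain ⟨Q, hQ⟩ := (hU.comap_subtype (K := K)).exists_le_sylow
  exact ⟨(Q : Subgroup K).map K.subtype, fun u hu => ⟨⟨u, hUK hu⟩, hQ hu, rfl⟩,
    H40.isSylowOf_map Q⟩

/-- A Sylow subgroup of `M ⊓ K` is one of `K` when its normalizer in `K` lies in `M`. -/
theorem isSylowOf_of_normalizer {M K T : Subgroup G} (hT : H40.IsSylowOf p T (M ⊓ K))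
    (hn : normalizer (T : Set G) ⊓ K ≤ M) : H40.IsSylowOf p T K := by
  obtain ⟨R, hTR, hR⟩ := exists_sylowOf_ge (hT.1.trans inf_le_right) hT.2.1
  rcases eq_or_lt_of_le hTR with heq | hlt
  · rwa [heq]
  exfalso
  obtain ⟨x, hxR, hxT, hxn⟩ := exists_normalizer_gt hR.2.1 hlt
  have hxM : x ∈ M := hn ⟨hxn, hR.1 hxR⟩
  exact hxT ((hT.eq_of_le (hR.2.1.to_le (sup_le hlt.le (zpowers_le.mpr hxR))) le_sup_left
    (sup_le hT.1 (zpowers_le.mpr ⟨hxM, hR.1 hxR⟩))).symm ▸ mem_sup_right (mem_zpowers x))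

/-- A normal `p`-subgroup lies in `O_{p',p}`. -/
theorem le_opp_of_normal {K A : Subgroup G} (hAK : A ≤ K) (hA : IsPGroup p A)
    (hn : K ≤ normalizer (A : Set G)) : A ≤ opp p K := by
  haveI : (A.subgroupOf K).Normal := normal_subgroupOf_of_le_normalizer hn
  rw [← map_subgroupOf_eq_of_le hAK]
  exact Subgroup.map_mono ((Cores.le_pCore (N := A.subgroupOf K) hA.comap_subtype).trans
    Cores.pCore_le_pPrimePCore)

/-- A Sylow subgroup of `K` covers a Sylow subgroup of `O_{p',p}(K)`. -/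
theorem opp_le_core_sup {K T : Subgroup G} (hT : H40.IsSylowOf p T K) :
    opp p K ≤ Signalizer.core p K ⊔ (T ⊓ opp p K) := by
  intro x hx
  obtain ⟨hxK, hx'⟩ := mem_opp_iff.mp hx
  have hidx : ¬ p ∣ (T.subgroupOf K).index := by
    rintro ⟨e, he⟩
    have h1 : (T.subgroupOf K).index * Nat.card (T.subgroupOf K) = Nat.card K := index_mul_card _
    rw [Nat.card_congr (subgroupOfEquivOfLe hT.1).toEquiv, hT.2.2, he] at h1
    exact Nat.pow_succ_factorization_not_dvd Nat.card_pos.ne' hp.out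
      ⟨e, by rw [pow_succ]; linarith⟩
  let Ts : Sylow p ↥K := (hT.2.1.comap_subtype (K := K)).toSylow hidx
  have h1 := Cores.pCore_le_sylow
    (Ts.mapSurjective (QuotientGroup.mk'_surjective (Cfsg.pPrimeCore p ↥K))) hx'
  rw [Sylow.coe_mapSurjective] at h1
  obtain ⟨t, ht, htx⟩ := h1
  have ho : (⟨x, hxK⟩ : ↥K) * t⁻¹ ∈ Cfsg.pPrimeCore p ↥K := by
    rw [← QuotientGroup.eq_one_iff]
    show QuotientGroup.mk' _ ((⟨x, hxK⟩ : ↥K) * t⁻¹) = 1
    rw [map_mul, map_inv, htx, mul_inv_cancel]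
  have ho' : x * (t : G)⁻¹ ∈ Signalizer.core p K := ⟨_, ho, rfl⟩
  have htO : (t : G) ∈ opp p K := by
    have := mul_mem (inv_mem (core_le_opp K ho')) hx
    simpa using this
  have := mul_mem (mem_sup_left (T := T ⊓ opp p K) ho')
    (mem_sup_right (S := Signalizer.core p K) (show (t : G) ∈ T ⊓ opp p K from ⟨ht, htO⟩))
  simpa using this

/-- Frattini: `K = O_{p'}(K) N_K(R)` for the Sylow subgroup `R` of `O_{p',p}(K)`. -/
theorem le_core_sup_normalizer {K T : Subgroup G} (hK : Group.IsSolvable K)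
    (hT : H40.IsSylowOf p T K) :
    K ≤ Signalizer.core p K ⊔ (K ⊓ normalizer ((T ⊓ opp p K : Subgroup G) : Set G)) := by
  intro k hk
  set R := T ⊓ opp p K
  set O := Signalizer.core p K
  have hRO : R ≤ normalizer (O : Set G) :=
    (inf_le_right.trans (opp_le K)).trans (Signalizer.le_normalizer_core K)
  have hle : R.map (MulAut.conj k).toMonoidHom ≤ O ⊔ R :=
    (Subgroup.map_mono inf_le_right).trans
      ((Coprime.map_conj_eq (le_normalizer_opp K hk)).le.trans (opp_le_core_sup hT))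
  have hcop : (Nat.card R).Coprime (Nat.card O) := by
    obtain ⟨n, hn⟩ := IsPGroup.iff_card.mp (hT.2.1.to_le (inf_le_left : R ≤ T))
    rw [hn]
    exact (hp.out.coprime_iff_not_dvd.mpr (Signalizer.not_dvd_card_core K)).pow_left n
  obtain ⟨n, hn, he⟩ := Coprime.exists_conj_of_le_sup (N := O) hRO hle
    (Coprime.card_map_conj _ _) hcop
    (Or.inr (Coprime.isSolvable_of_le (Signalizer.core_le K) hK))
  have hk' : n⁻¹ * k ∈ normalizer (R : Set G) := by
    refine Coprime.mem_normalizer_of_map_conj ?_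
    rw [← Coprime.map_conj_map_conj, he, Coprime.map_conj_map_conj, inv_mul_cancel,
      Coprime.map_conj_one]
  have hk'' : n⁻¹ * k ∈ K ⊓ normalizer (R : Set G) :=
    mem_inf.mpr ⟨mul_mem (inv_mem (Signalizer.core_le K hn)) hk, hk'⟩
  simpa using mul_mem (mem_sup_left hn) (mem_sup_right hk'')

/-- A `p`-element of a Sylow subgroup centralizing the Sylow subgroup of `O_{p',p}(K)` lies in it. -/
theorem mem_opp_of_centralizes {K T : Subgroup G} (hK : Group.IsSolvable K)
    (hT : H40.IsSylowOf p T K) {x : G} (hx : x ∈ T)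
    (hc : ∀ r ∈ T ⊓ opp p K, r * x = x * r) : x ∈ opp p K := by
  set π := QuotientGroup.mk' (Cfsg.pPrimeCore p ↥K) with hπ
  refine mem_opp_iff.mpr ⟨hT.1 hx, ?_⟩
  have hC := Cores.isPConstrained_iff.mp
    (Cores.isPConstrained_of_isPSolvable (Signalizer.isPSolvable_of_solvable (q := p) hK))
  refine hC (mem_centralizer_iff.mpr fun y hy => ?_)
  obtain ⟨w, rfl⟩ := QuotientGroup.mk'_surjective (Cfsg.pPrimeCore p ↥K) y
  obtain ⟨o, ho, r, hr, hw⟩ := (Coprime.mem_sup_iff
    ((inf_le_right.trans (opp_le K)).trans (Signalizer.le_normalizer_core K))).mp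
    (opp_le_core_sup hT (mem_opp_iff.mpr ⟨w.2, hy⟩))
  obtain ⟨o', ho', rfl⟩ := ho
  have hwr : w = o' * ⟨r, opp_le K hr.2⟩ := Subtype.ext hw.symm
  have : π w = π ⟨r, opp_le K hr.2⟩ := by
    rw [hwr, map_mul, show π o' = 1 from (QuotientGroup.eq_one_iff _).mpr ho', one_mul]
  rw [← hπ, this, ← map_mul, ← map_mul]
  exact congrArg π (Subtype.ext (hc r hr))

/-- A `p`-subgroup stabilizing the series `R > R ∩ Z(K) > 1` lies in `O_{p',p}(K)`. -/
theorem mem_opp_of_series {K T : Subgroup G} (hK : Group.IsSolvable K)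
    (hT : H40.IsSylowOf p T K) {e a : G} (he : e ∈ T) (hec : ∀ k ∈ K, e * k = k * e) (ha : a ∈ T)
    (hc : ∀ r ∈ T ⊓ opp p K, ⁅r, a⁆ ∈ zpowers e) : a ∈ opp p K := by
  set N := Cfsg.pPrimeCore p ↥K with hN
  set π := QuotientGroup.mk' N with hπ
  set R := Cfsg.pCore p (↥K ⧸ N) with hR
  set E : Subgroup (↥K ⧸ N) := zpowers (π ⟨e, hT.1 he⟩) with hE
  have hEc : ∀ y : ↥K ⧸ N, ∀ z ∈ E, y * z = z * y := by
    intro y z hz
    obtain ⟨k, rfl⟩ := QuotientGroup.mk'_surjective N y
    obtain ⟨i, rfl⟩ := mem_zpowers_iff.mp hz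
    refine (Commute.zpow_right ?_ i).eq
    show π k * π ⟨e, hT.1 he⟩ = π ⟨e, hT.1 he⟩ * π k
    rw [← map_mul, ← map_mul]
    exact congrArg π (Subtype.ext (hec k k.2).symm)
  haveI hEn : E.Normal := ⟨fun z hz y => by rw [hEc y z hz, mul_inv_cancel_right]; exact hz⟩
  have hEp : IsPGroup p E := by
    obtain ⟨k, hk⟩ := hT.2.1 ⟨e, he⟩
    intro z
    obtain ⟨i, hi⟩ := mem_zpowers_iff.mp z.2
    refine ⟨k, Subtype.ext ?_⟩
    rw [Subgroup.coe_pow, Subgroup.coe_one, ← hi, ← zpow_natCast, zpow_comm, zpow_natCast,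
      ← map_pow]
    have : (⟨e, hT.1 he⟩ : ↥K) ^ p ^ k = 1 := Subtype.ext (congrArg Subtype.val hk :)
    rw [this, map_one, one_zpow]
  -- the elements stabilizing the series form a normal subgroup
  let S : Subgroup (↥K ⧸ N) :=
    { carrier := {s | ∀ r ∈ R, ⁅r, s⁆ ∈ E}
      one_mem' := fun r _ => by rw [commutatorElement_one_right]; exact one_mem _
      mul_mem' := fun {s t} hs ht r hr => by
        have h1 : ⁅r, s * t⁆ = ⁅r, s⁆ * (s * ⁅r, t⁆ * s⁻¹) := by
          simp only [commutatorElement_def]; group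
        rw [h1]
        exact mul_mem (hs r hr) (hEn.conj_mem _ (ht r hr) s)
      inv_mem' := fun {s} hs r hr => by
        have h1 : ⁅r, s⁻¹⁆ = s⁻¹ * ⁅r, s⁆⁻¹ * s⁻¹⁻¹ := by
          simp only [commutatorElement_def]; group
        rw [h1]
        exact hEn.conj_mem _ (inv_mem (hs r hr)) _ }
  haveI hSn : S.Normal := ⟨fun s hs y r hr => by
    have h1 : ⁅r, y * s * y⁻¹⁆ = y * ⁅y⁻¹ * r * y, s⁆ * y⁻¹ := by
      simp only [commutatorElement_def]; group
    rw [h1]
    refine hEn.conj_mem _ (hs _ ?_) y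
    have h2 := (inferInstance : R.Normal).conj_mem r hr y⁻¹
    exact (show y⁻¹ * r * y = y⁻¹ * r * y⁻¹⁻¹ by group) ▸ h2⟩
  have hER : E ≤ R := Cores.le_pCore hEp
  -- it is a `p`-group
  have hSp : S ≤ R := by
    refine Cores.le_pCore fun s => ?_
    have hRp : IsPGroup p R := Cores.pCore_isPGroup
    obtain ⟨n, hn⟩ := IsPGroup.iff_card.mp hRp
    refine ⟨n + n, Subtype.ext ?_⟩
    have hsr : ∀ r ∈ R, ∀ i : ℕ, (s : ↥K ⧸ N) ^ i * r = ⁅(s : ↥K ⧸ N), r⁆ ^ i * r * (s : ↥K ⧸ N) ^ i := by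
      intro r hr i
      have hcE : ⁅(s : ↥K ⧸ N), r⁆ ∈ E := by
        rw [← commutatorElement_inv]; exact inv_mem (s.2 r hr)
      induction i with
      | zero => simp
      | succ i ih =>
        rw [pow_succ' (s : ↥K ⧸ N), mul_assoc, ih, ← mul_assoc, ← mul_assoc,
          hEc _ _ (pow_mem hcE i), mul_assoc (⁅(s : ↥K ⧸ N), r⁆ ^ i) _ r]
        rw [pow_succ ⁅(s : ↥K ⧸ N), r⁆ i]
        simp only [commutatorElement_def]
        group
    have hcent : (s : ↥K ⧸ N) ^ p ^ n ∈ centralizer (R : Set (↥K ⧸ N)) := by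
      refine mem_centralizer_iff.mpr fun r hr => ?_
      have hcE : ⁅(s : ↥K ⧸ N), r⁆ ∈ E := by
        rw [← commutatorElement_inv]; exact inv_mem (s.2 r hr)
      have h1 : ⁅(s : ↥K ⧸ N), r⁆ ^ p ^ n = 1 := by
        rw [← hn]
        exact congrArg Subtype.val (pow_card_eq_one' (x := (⟨_, hER hcE⟩ : R)))
      rw [hsr r hr, h1, one_mul]
    have hsR := Cores.isPConstrained_iff.mp
      (Cores.isPConstrained_of_isPSolvable (Signalizer.isPSolvable_of_solvable (q := p) hK)) hcent
    have := congrArg Subtype.val (pow_card_eq_one' (x := (⟨_, hsR⟩ : R)))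
    rw [hn] at this
    rw [Subgroup.coe_pow, Subgroup.coe_one, pow_add, pow_mul]
    exact this
  refine mem_opp_iff.mpr ⟨hT.1 ha, hSp ?_⟩
  intro r hr
  obtain ⟨w, rfl⟩ := QuotientGroup.mk'_surjective N r
  obtain ⟨o, ho, r, hr', hw⟩ := (Coprime.mem_sup_iff
    ((inf_le_right.trans (opp_le K)).trans (Signalizer.le_normalizer_core K))).mp
    (opp_le_core_sup hT (mem_opp_iff.mpr ⟨w.2, hr⟩))
  obtain ⟨o', ho', rfl⟩ := ho
  have hwr : w = o' * ⟨r, opp_le K hr'.2⟩ := Subtype.ext hw.symm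
  obtain ⟨i, hi⟩ := mem_zpowers_iff.mp (hc r hr')
  refine mem_zpowers_iff.mpr ⟨i, ?_⟩
  rw [hwr, map_mul, show (QuotientGroup.mk' N) o' = 1 from (QuotientGroup.eq_one_iff _).mpr ho', one_mul,
    ← map_zpow, ← hπ]
  show π _ = ⁅π _, π _⁆
  rw [← map_commutatorElement]
  exact congrArg π (Subtype.ext (by simpa [commutatorElement_def] using hi))

/-- If the Sylow subgroup of `O_{p',p}(K)` is cyclic, it is a Sylow subgroup of `K`. -/
theorem le_opp_of_isCyclic {K T : Subgroup G} (hK : Group.IsSolvable K)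
    (hT : H40.IsSylowOf p T K) (hc : IsCyclic ↥(T ⊓ opp p K)) : T ≤ opp p K := by
  set N := Cfsg.pPrimeCore p ↥K with hN
  set π := QuotientGroup.mk' N with hπ
  set R := Cfsg.pCore p (↥K ⧸ N) with hR
  set R₀ := T ⊓ opp p K with hR₀
  have hR₀K : R₀ ≤ K := inf_le_right.trans (opp_le K)
  haveI : IsCyclic ↥R := by
    haveI := hc
    let f : ↥R₀ →* ↥R :=
      { toFun := fun r => ⟨π ⟨r, hR₀K r.2⟩, (mem_opp_iff.mp r.2.2).2⟩
        map_one' := Subtype.ext (map_one π)
        map_mul' := fun a b => Subtype.ext (map_mul π ⟨a, hR₀K a.2⟩ ⟨b, hR₀K b.2⟩) }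
    refine isCyclic_of_surjective f ?_
    rintro ⟨y, hy⟩
    obtain ⟨w, rfl⟩ := QuotientGroup.mk'_surjective N y
    obtain ⟨o, ho, r, hr, hw⟩ := (Coprime.mem_sup_iff
      (hR₀K.trans (Signalizer.le_normalizer_core K))).mp
      (opp_le_core_sup hT (mem_opp_iff.mpr ⟨w.2, hy⟩))
    obtain ⟨o', ho', rfl⟩ := ho
    have hwr : w = o' * ⟨r, hR₀K hr⟩ := Subtype.ext hw.symm
    refine ⟨⟨r, hr⟩, Subtype.ext ?_⟩
    show π ⟨r, hR₀K hr⟩ = π w
    rw [hwr, map_mul, show π o' = 1 from (QuotientGroup.eq_one_iff _).mpr ho', one_mul]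
  have hC : centralizer (R : Set (↥K ⧸ N)) ≤ R := Cores.isPConstrained_iff.mp
    (Cores.isPConstrained_of_isPSolvable (Signalizer.isPSolvable_of_solvable (q := p) hK))
  have hcomm : commutator (↥K ⧸ N) ≤ R := by
    refine le_trans (commutator_le.mpr fun g _ h _ => mem_centralizer_iff.mpr fun y hy => ?_) hC
    let φ := MulAut.conjNormal (H := R)
    have h1 : φ ⁅g, h⁆ = 1 := by
      rw [map_commutatorElement, commutatorElement_eq_one_iff_mul_comm]
      exact (IsCyclic.mulAutMulEquiv ↥R).injective (by rw [map_mul, map_mul, mul_comm])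
    have h2 := congrArg Subtype.val (DFunLike.congr_fun h1 ⟨y, hy⟩)
    simp only [φ, MulAut.conjNormal_apply, MulAut.one_apply] at h2
    exact (mul_inv_eq_iff_eq_mul.mp h2).symm
  set S := T.subgroupOf K with hS
  have hn : (S.map π ⊔ R).Normal := Subgroup.Normal.of_commutator_le _ (hcomm.trans le_sup_right)
  have hp' : IsPGroup p ↥(S.map π ⊔ R) :=
    ((hT.2.1.comap_subtype (K := K)).map π).to_sup_of_normal_right Cores.pCore_isPGroup
  haveI := hn
  intro t ht
  exact mem_opp_iff.mpr ⟨hT.1 ht,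
    Cores.le_pCore hp' (mem_sup_left ⟨⟨t, hT.1 ht⟩, ht, rfl⟩)⟩

/-- An invariant `p'`-subgroup lies in the core when the acting `p`-group contains the elements of
order `p` of its centralizer. -/
theorem le_core_of_invariant (hp2 : p ≠ 2) {K E U : Subgroup G} (hK : Group.IsSolvable K)
    (hEK : E ≤ K) (hE : IsPGroup p E)
    (hfull : ∀ x ∈ K, orderOf x = p → (∀ e ∈ E, e * x = x * e) → x ∈ E)
    (hUK : U ≤ K) (hU : ¬ p ∣ Nat.card U) (hEU : E ≤ normalizer (U : Set G)) :
    U ≤ Signalizer.core p K := by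
  rw [Signalizer.core, ← map_subgroupOf_eq_of_le hUK]
  refine Subgroup.map_mono (H42.le_pPrimeCore_of_invariant_odd
    (Cores.isPConstrained_of_isPSolvable (Signalizer.isPSolvable_of_solvable (q := p) hK))
    (E.subgroupOf K) (U.subgroupOf K) hE.comap_subtype ?_ ?_ ?_ hp2)
  · intro x hx hxp
    refine hfull x x.2 (by rw [Subgroup.orderOf_coe, hxp]) fun e he => ?_
    exact congrArg Subtype.val (mem_centralizer_iff.mp hx ⟨e, hEK he⟩ he)
  · intro e he
    exact mem_normalizer_iff.mpr fun y => mem_normalizer_iff.mp (hEU he) (y : G)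
  · rw [Nat.card_congr (subgroupOfEquivOfLe hUK).toEquiv]
    exact (hp.out.coprime_iff_not_dvd.mpr hU).symm

/-- A `p'`-subgroup centralizing a `p`-subgroup `Q` and normalized by the centralizer of `Q` lies in
the core. -/
theorem le_core_of_centralized {K Q U : Subgroup G} (hK : Group.IsSolvable K) (hQK : Q ≤ K)
    (hQ : IsPGroup p Q) (hUK : U ≤ K) (hU : ¬ p ∣ Nat.card U)
    (hUQ : U ≤ centralizer (Q : Set G))
    (hCU : K ⊓ centralizer (Q : Set G) ≤ normalizer (U : Set G)) :
    U ≤ Signalizer.core p K := by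
  set N := Cfsg.pPrimeCore p ↥K with hN
  set π := QuotientGroup.mk' N with hπ
  set R := Cfsg.pCore p (↥K ⧸ N) with hR
  set Q' := (Q.subgroupOf K).map π with hQ'
  set U' := (U.subgroupOf K).map π with hU'
  have hU'p : (Nat.card U').Coprime p := by
    refine Nat.Coprime.coprime_dvd_left (card_map_dvd _ _) ?_
    rw [Nat.card_congr (subgroupOfEquivOfLe hUK).toEquiv]
    exact (hp.out.coprime_iff_not_dvd.mpr hU).symm
  have hRn : ∀ X : Subgroup (↥K ⧸ N), X ≤ normalizer (R : Set (↥K ⧸ N)) := fun X =>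
    (Subgroup.normalizer_eq_top_iff.mpr (Cfsg.pCore_normal p (↥K ⧸ N))).symm ▸ le_top
  have hdisj : R ⊓ U' = ⊥ := Cores.disjoint_of_isPGroup_of_coprime Cores.pCore_isPGroup hU'p
  have hQU : Q' ≤ centralizer (U' : Set (↥K ⧸ N)) := by
    rintro _ ⟨a, ha, rfl⟩
    refine mem_centralizer_iff.mpr ?_
    rintro _ ⟨b, hb, rfl⟩
    rw [← map_mul, ← map_mul]
    exact congrArg π (Subtype.ext (mem_centralizer_iff.mp (hUQ hb) _ ha).symm)
  have hfix : R ⊓ centralizer (Q' : Set (↥K ⧸ N)) ≤ centralizer (U' : Set (↥K ⧸ N)) := by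
    rintro x ⟨hxR, hxC⟩
    have hxn : x ∈ normalizer (U' : Set (↥K ⧸ N)) := by
      have hQK' : IsPGroup p (Q.subgroupOf K) := hQ.comap_subtype
      rw [hQ', hπ, ← Cores.map_centralizer_of_coprime N Cores.coprime_card_pPrimeCore hQK'] at hxC
      obtain ⟨w, hw, rfl⟩ := hxC
      refine le_normalizer_map π ⟨w, mem_normalizer_iff.mpr fun y => ?_, rfl⟩
      exact mem_normalizer_iff.mp (hCU ⟨w.2, mem_centralizer_iff.mpr fun a ha =>
        congrArg Subtype.val (mem_centralizer_iff.mp hw ⟨a, hQK ha⟩ ha)⟩) (y : G)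
    refine Coprime.mem_centralizer_of_conj_eq fun u hu => ?_
    have h1 : u * x * u⁻¹ * x⁻¹ ∈ R ⊓ U' := by
      refine mem_inf.mpr ⟨mul_mem ((Cfsg.pCore_normal p (↥K ⧸ N)).conj_mem x hxR u) (inv_mem hxR), ?_⟩
      have := mul_mem hu (Coprime.conj_mem hxn (inv_mem hu))
      simpa [mul_assoc] using this
    rw [hdisj, mem_bot, mul_inv_eq_one] at h1
    exact h1
  have hUR : U' ≤ centralizer (R : Set (↥K ⧸ N)) :=
    Coprime.thompson_AxB (hQ.comap_subtype.map π) hU'p hQU R Cores.pCore_isPGroup (hRn _) (hRn _) hfix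
  have hbot : U' = ⊥ := le_bot_iff.mp (hdisj ▸ le_inf (hUR.trans (Cores.isPConstrained_iff.mp
    (Cores.isPConstrained_of_isPSolvable (Signalizer.isPSolvable_of_solvable (q := p) hK)))) le_rfl)
  rw [hU', Subgroup.map_eq_bot_iff, QuotientGroup.ker_mk'] at hbot
  rw [Signalizer.core, ← map_subgroupOf_eq_of_le hUK]
  exact Subgroup.map_mono hbot

/-- The fixed-point-free transvection: `e` of order `p` centralizing a subgroup of index at most `p`
of a normal self-centralizing `p`-subgroup fixes a nontrivial element of every invariant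
`p'`-subgroup. -/
theorem eq_bot_of_transvection {H : Type u} [Group H] [Finite H] (hp2 : p ≠ 2) (R : Subgroup H)
    [R.Normal] (hR : IsPGroup p R) (hC : centralizer (R : Set H) ≤ R) {e : H} (he : e ^ p = 1)
    (hidx : (centralizer ({e} : Set H)).relIndex R ≤ p) {U : Subgroup H}
    (hU : (Nat.card U).Coprime p) (heU : e ∈ normalizer (U : Set H))
    (hfpf : ∀ u ∈ U, e * u = u * e → u = 1) : U = ⊥ := by
  have hpp : p.Prime := hp.out
  set F : Subgroup H := (frattini R).map R.subtype with hF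
  haveI hFn : F.Normal := by
    rw [← normalizer_eq_top_iff, eq_top_iff]
    exact le_trans (normalizer_eq_top_iff.mpr (inferInstance : R.Normal)).ge
      (Components.le_normalizer_map_characteristic _ le_rfl)
  have hFR : F ≤ R := map_subtype_le _
  set π := QuotientGroup.mk' F with hπ
  set V := R.map π with hV
  have hUF : ∀ u ∈ U, u ∈ F → u = 1 := fun u hu huF => by
    have h1 : u ∈ R ⊓ U := ⟨hFR huF, hu⟩
    rwa [Cores.disjoint_of_isPGroup_of_coprime hR hU, mem_bot] at h1
  have hcommF : ∀ a ∈ R, ∀ b ∈ R, ⁅a, b⁆ ∈ F := fun a ha b hb =>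
    ⟨⁅⟨a, ha⟩, ⟨b, hb⟩⁆, PGroups.commutator_le_frattini hR
      (commutator_mem_commutator (mem_top _) (mem_top _)), by simp [commutatorElement_def]⟩
  have hVc : IsMulCommutative V := by
    refine ⟨⟨?_⟩⟩
    rintro ⟨_, a, ha, rfl⟩ ⟨_, b, hb, rfl⟩
    refine Subtype.ext ?_
    show π a * π b = π b * π a
    rw [← commutatorElement_eq_one_iff_mul_comm, ← map_commutatorElement]
    exact (QuotientGroup.eq_one_iff _).mpr (hcommF a ha b hb)
  have hVexp : ∀ v ∈ V, v ^ p = 1 := by
    rintro _ ⟨a, ha, rfl⟩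
    rw [← map_pow]
    exact (QuotientGroup.eq_one_iff _).mpr ⟨⟨a, ha⟩ ^ p, PGroups.pow_mem_frattini hR _, by simp⟩
  -- the centralized part has index at most `p`
  set D := (R ⊓ centralizer ({e} : Set H)).map π with hD
  have hDV : D ≤ V := Subgroup.map_mono inf_le_left
  have hDe : ∀ d ∈ D, π e * d = d * π e := by
    rintro _ ⟨a, ha, rfl⟩
    rw [← map_mul, ← map_mul, mem_centralizer_singleton_iff.mp ha.2]
  have hcard : Nat.card V ≤ p * Nat.card D := by
    have h1 : D.relIndex V ≤ p := by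
      refine le_trans (Nat.le_of_dvd (Nat.pos_of_ne_zero ?_) ?_) hidx
      · exact fun h0 => (Subgroup.index_ne_zero_of_finite (H := (centralizer ({e} : Set H)).subgroupOf R)) h0
      · rw [hV, ← Subgroup.relIndex_comap, ← Subgroup.inf_relIndex_right (centralizer ({e} : Set H)) R]
        refine relIndex_dvd_of_le_left _ ?_
        rw [inf_comm]
        exact Subgroup.map_le_iff_le_comap.mp hD.ge
    rw [← relIndex_bot_left D, ← relIndex_bot_left V,
      ← relIndex_mul_relIndex ⊥ D V bot_le hDV, mul_comm p]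
    exact Nat.mul_le_mul_left _ h1
  have heV : π e ∈ normalizer (V : Set (H ⧸ F)) :=
    le_normalizer_map π ⟨e, (normalizer_eq_top_iff.mpr (inferInstance : R.Normal)).ge (mem_top _), rfl⟩
  -- so `e` acts quadratically
  have hquad : ∀ v ∈ V, π e * v * (π e)⁻¹ * v⁻¹ ∈ D := by
    intro v hv
    obtain ⟨n, hn⟩ := IsPGroup.iff_card.mp ((hR.map π).to_le hDV)
    obtain ⟨m, hm⟩ := IsPGroup.iff_card.mp (hR.map π : IsPGroup p V)
    have hm' : m ≤ n + 1 := (Nat.pow_le_pow_iff_right hpp.one_lt).mp (by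
      rw [pow_succ, ← hn, ← hm, mul_comm]; exact hcard)
    haveI := hVc
    haveI : (D.subgroupOf V).Normal := inferInstance
    let q := QuotientGroup.mk' (D.subgroupOf V)
    have hidx2 : (D.subgroupOf V).index ∣ p := by
      have h1 : Nat.card D * (D.subgroupOf V).index = p ^ m := by
        rw [← hm, ← Subgroup.card_mul_index (D.subgroupOf V),
          Nat.card_congr (subgroupOfEquivOfLe hDV).toEquiv]
      obtain ⟨j, hj, hji⟩ := (Nat.dvd_prime_pow hpp).mp (Dvd.intro_left _ h1)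
      rw [hn, hji, ← pow_add] at h1
      have := Nat.pow_right_injective hpp.two_le h1
      rw [hji]
      exact (pow_dvd_pow p (by omega : j ≤ 1)).trans (pow_one p).dvd
    -- `e` acts on the quotient of order dividing `p`
    let c : V →* V :=
      { toFun := fun w => ⟨π e * w * (π e)⁻¹, (mem_normalizer_iff.mp heV w).mp w.2⟩
        map_one' := Subtype.ext (by simp)
        map_mul' := fun a b => Subtype.ext (by simp [mul_assoc]) }
    have hcD : D.subgroupOf V ≤ (D.subgroupOf V).comap c := fun w hw => by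
      show π e * w * (π e)⁻¹ ∈ D
      rw [hDe _ (mem_subgroupOf.mp hw), mul_inv_cancel_right]; exact mem_subgroupOf.mp hw
    let cq : V ⧸ D.subgroupOf V →* V ⧸ D.subgroupOf V :=
      QuotientGroup.map _ _ c hcD
    haveI : IsCyclic (V ⧸ D.subgroupOf V) := by
      rcases (Nat.dvd_prime hpp).mp hidx2 with h1 | h1
      · haveI : Subsingleton (V ⧸ D.subgroupOf V) := (Nat.card_eq_one_iff_unique.mp
          (by rw [← Subgroup.index_eq_card, h1])).1
        exact isCyclic_of_subsingleton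
      · exact isCyclic_of_prime_card (p := p) (by rw [← Subgroup.index_eq_card, h1])
    obtain ⟨k, hk⟩ := cq.map_cyclic
    have hcp : ∀ i : ℕ, ∀ w, (cq^[i]) w = w ^ (k ^ i) := by
      intro i
      induction i with
      | zero => intro w; simp
      | succ i ih => intro w; rw [Function.iterate_succ_apply', ih, hk, ← zpow_mul, pow_succ]
    have hci : ∀ i : ℕ, ∀ w : V, (((c^[i]) w : V) : H ⧸ F) = π e ^ i * w * (π e ^ i)⁻¹ := by
      intro i
      induction i with
      | zero => intro w; simp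
      | succ i ih =>
        intro w
        rw [Function.iterate_succ_apply']
        show π e * _ * (π e)⁻¹ = _
        rw [ih, pow_succ']
        group
    have hqi : ∀ i : ℕ, ∀ w : V, (cq^[i]) (q w) = q ((c^[i]) w) := by
      intro i
      induction i with
      | zero => intro w; rfl
      | succ i ih => intro w; rw [Function.iterate_succ_apply', Function.iterate_succ_apply', ih]; rfl
    have hfixp : ∀ w : V ⧸ D.subgroupOf V, w ^ (k ^ p) = w := by
      intro w
      obtain ⟨w, rfl⟩ := QuotientGroup.mk'_surjective _ w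
      rw [← hcp, hqi]
      congr 1
      refine Subtype.ext ?_
      rw [hci, ← map_pow, he, map_one, one_mul, inv_one, mul_one]
    have hmain : q ⟨π e * v * (π e)⁻¹, (mem_normalizer_iff.mp heV v).mp hv⟩ = q ⟨v, hv⟩ := by
      show cq (q ⟨v, hv⟩) = q ⟨v, hv⟩
      set w := q ⟨v, hv⟩
      rw [hk]
      have h1 : (orderOf w : ℤ) ∣ k ^ p - 1 := by
        rw [orderOf_dvd_iff_zpow_eq_one, zpow_sub, hfixp, zpow_one, mul_inv_cancel]
      have h2 : orderOf w ∣ p := (orderOf_dvd_natCard w).trans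
        ((dvd_of_eq (Subgroup.index_eq_card _).symm).trans hidx2)
      rcases (Nat.dvd_prime hpp).mp h2 with h3 | h3
      · rw [orderOf_eq_one_iff.mp h3, one_zpow]
      · rw [h3] at h1
        have h4 : (k : ZMod p) ^ p = 1 := by
          have := (ZMod.intCast_zmod_eq_zero_iff_dvd _ _).mpr h1
          push_cast at this
          exact sub_eq_zero.mp this
        rw [ZMod.pow_card] at h4
        have h5 : (orderOf w : ℤ) ∣ k - 1 := by
          rw [h3, ← ZMod.intCast_zmod_eq_zero_iff_dvd]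
          push_cast
          rw [h4, sub_self]
        obtain ⟨j, hj⟩ := h5
        rw [show k = 1 + (orderOf w : ℤ) * j by linarith, zpow_add, zpow_one, zpow_mul,
          zpow_natCast, pow_orderOf_eq_one, one_zpow, mul_one]
    exact (QuotientGroup.eq_iff_div_mem.mp hmain : (_ : V) ∈ D.subgroupOf V) |>
      fun h => by simpa [mem_subgroupOf, div_eq_mul_inv] using h
  -- and has trivial norm
  have hnorm : ∀ v ∈ V, (v * π e) ^ p = π e ^ p := by
    intro v hv
    set d := π e * v * (π e)⁻¹ * v⁻¹ with hd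
    have hdD := hquad v hv
    have hdv : d * v = v * d :=
      congrArg Subtype.val (hVc.is_comm.comm ⟨d, hDV hdD⟩ ⟨v, hv⟩)
    have hstep : ∀ i : ℕ, (v * π e) ^ i = v ^ i * d ^ i.choose 2 * π e ^ i := by
      intro i
      induction i with
      | zero => simp
      | succ i ih =>
        have hev : π e ^ i * v = d ^ i * v * π e ^ i := by
          clear ih
          induction i with
          | zero => simp
          | succ i ih2 =>
            have hed : π e * d ^ i = d ^ i * π e :=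
              ((Commute.pow_right (hDe d hdD : Commute (π e) d)) i).eq
            rw [pow_succ' (π e), mul_assoc, ih2, ← mul_assoc, ← mul_assoc, hed, pow_succ d]
            simp only [hd]
            group
        rw [pow_succ, ih]
        have hdvc : Commute d v := hdv
        calc v ^ i * d ^ i.choose 2 * π e ^ i * (v * π e)
            = v ^ i * d ^ i.choose 2 * (π e ^ i * v) * π e := by group
          _ = v ^ i * d ^ i.choose 2 * (d ^ i * v * π e ^ i) * π e := by rw [hev]
          _ = v ^ i * (d ^ i.choose 2 * d ^ i) * v * π e ^ (i + 1) := by rw [pow_succ]; group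
          _ = v ^ (i + 1) * d ^ (i + 1).choose 2 * π e ^ (i + 1) := by
            rw [← pow_add, Nat.choose_succ_succ', Nat.choose_one_right, add_comm i (i.choose 2),
              mul_assoc (v ^ i), (hdvc.pow_left _).eq, ← mul_assoc, ← pow_succ]
    obtain ⟨j, hj⟩ : p ∣ p.choose 2 :=
      hpp.dvd_choose_self (by norm_num) (lt_of_le_of_ne hpp.two_le (Ne.symm hp2))
    rw [hstep, hVexp v hv, hj, pow_mul, hVexp d (hDV hdD), one_pow, one_mul, one_mul]
  -- `U` centralizes `V`
  set U' := U.map π with hU'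
  have hU'p : (Nat.card U').Coprime p := hU.coprime_dvd_left (card_map_dvd _ _)
  have hVcard : (Nat.card U').Coprime (Nat.card V) := by
    obtain ⟨n, hn⟩ := IsPGroup.iff_card.mp (hR.map π : IsPGroup p V)
    rw [hn]; exact hU'p.pow_right n
  have hcentral : ∀ u ∈ U', ∀ v ∈ V, u * v = v * u := fun u hu v hv =>
    H70.commute_of_trivial_norm V U' hVc
      ((le_normalizer_map π).trans' (Subgroup.map_mono
        ((normalizer_eq_top_iff.mpr (inferInstance : R.Normal)).ge.trans' le_top)))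
      (π e) heV hVcard p hpp.pos
      (fun y hy => by
        obtain ⟨w, hw, rfl⟩ := hy
        exact ⟨e * w * e⁻¹, (mem_normalizer_iff.mp heU w).mp hw, by simp⟩)
      (fun i hi hip y hy hfix => by
        obtain ⟨w, hw, rfl⟩ := hy
        have hwn : e ^ i * w * (e ^ i)⁻¹ * w⁻¹ ∈ U ⊓ F := by
          refine mem_inf.mpr ⟨mul_mem ((mem_normalizer_iff.mp (pow_mem heU i) w).mp hw) (inv_mem hw), ?_⟩
          rw [← QuotientGroup.eq_one_iff]
          show π _ = 1
          rw [map_mul, map_mul, map_mul, map_inv, map_inv, map_pow, hfix, mul_inv_cancel]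
        have h1 := hUF _ hwn.1 hwn.2
        rw [mul_inv_eq_one, mul_inv_eq_iff_eq_mul] at h1
        obtain ⟨j, hj⟩ : ∃ j, (e ^ i) ^ j = e := by
          refine exists_pow_eq_self_of_coprime (Nat.Coprime.coprime_dvd_right (orderOf_dvd_of_pow_eq_one he) ?_)
          exact (Nat.coprime_of_lt_prime hi.ne' hip hpp).symm
        have h2 : Commute ((e ^ i) ^ j) w := (show Commute (e ^ i) w from h1).pow_left j
        rw [hj] at h2
        rw [hfpf w hw h2.eq, map_one])
      hnorm u hu v hv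
  have hUR : U ≤ centralizer (R : Set H) := by
    refine Coprime.le_centralizer_of_frattini
      ((normalizer_eq_top_iff.mpr (inferInstance : R.Normal)).ge.trans' le_top) ?_ fun u hu r hr => ?_
    · obtain ⟨n, hn⟩ := IsPGroup.iff_card.mp (hR.to_subgroup (frattini R))
      rw [hn]; exact hU.pow_right n
    · rw [← hF, ← QuotientGroup.eq_one_iff]
      show π _ = 1
      rw [map_mul, map_mul, map_mul, map_inv, map_inv,
        hcentral _ (mem_map_of_mem π hu) _ (mem_map_of_mem π hr), mul_inv_cancel_right, mul_inv_cancel]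
  rw [eq_bot_iff, ← Cores.disjoint_of_isPGroup_of_coprime hR hU]
  exact le_inf (hUR.trans hC) le_rfl

/-- The transvection form in a solvable subgroup `K`. -/
theorem le_core_of_transvection (hp2 : p ≠ 2) {K T : Subgroup G} (hK : Group.IsSolvable K)
    (hT : H40.IsSylowOf p T K) {e : G} (he : e ∈ T) (hep : e ^ p = 1)
    (hidx : (centralizer ({e} : Set G)).relIndex (T ⊓ opp p K) ≤ p) {U : Subgroup G}
    (hUK : U ≤ K) (hU : ¬ p ∣ Nat.card U) (heU : e ∈ normalizer (U : Set G))
    (hfix : U ⊓ centralizer ({e} : Set G) ≤ Signalizer.core p K) :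
    U ≤ Signalizer.core p K := by
  set N := Cfsg.pPrimeCore p ↥K with hN
  set π := QuotientGroup.mk' N with hπ
  set R := Cfsg.pCore p (↥K ⧸ N) with hR
  set e' : ↥K := ⟨e, hT.1 he⟩ with he'
  set R₀ := T ⊓ opp p K with hR₀
  have hR₀K : R₀ ≤ K := inf_le_right.trans (opp_le K)
  have hUcop : (Nat.card U).Coprime p := (hp.out.coprime_iff_not_dvd.mpr hU).symm
  -- index
  have hidx' : (centralizer ({π e'} : Set (↥K ⧸ N))).relIndex R ≤ p := by
    have hRmap : R = (R₀.subgroupOf K).map π := by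
      refine le_antisymm (fun y hy => ?_) ?_
      · obtain ⟨w, rfl⟩ := QuotientGroup.mk'_surjective N y
        obtain ⟨o, ho, r, hr, hw⟩ := (Coprime.mem_sup_iff
          (hR₀K.trans (Signalizer.le_normalizer_core K))).mp
          (opp_le_core_sup hT (mem_opp_iff.mpr ⟨w.2, hy⟩))
        obtain ⟨o', ho', rfl⟩ := ho
        have hwr : w = o' * ⟨r, hR₀K hr⟩ := Subtype.ext hw.symm
        refine ⟨⟨r, hR₀K hr⟩, hr, ?_⟩
        rw [hwr, map_mul, show π o' = 1 from (QuotientGroup.eq_one_iff _).mpr ho', one_mul]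
      · rintro _ ⟨w, hw, rfl⟩
        exact (mem_opp_iff.mp hw.2).2
    refine le_trans (Nat.le_of_dvd (Nat.pos_of_ne_zero ?_) ?_) hidx
    · exact fun h0 => (Subgroup.index_ne_zero_of_finite (H := (centralizer ({e} : Set G)).subgroupOf R₀)) h0
    · have hle : ((centralizer ({e} : Set G)).subgroupOf K).map π ≤
          centralizer ({π e'} : Set (↥K ⧸ N)) := by
        rintro _ ⟨w, hw, rfl⟩
        rw [mem_centralizer_singleton_iff, ← map_mul, ← map_mul]
        exact congrArg π (Subtype.ext (mem_centralizer_singleton_iff.mp hw))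
      refine (relIndex_dvd_of_le_left _ hle).trans ?_
      rw [hRmap, ← Subgroup.relIndex_comap,
        ← Subgroup.relIndex_subgroupOf (H := centralizer ({e} : Set G)) hR₀K]
      exact relIndex_dvd_of_le_left _ (Subgroup.le_comap_map _ _)
  have hbot := eq_bot_of_transvection hp2 R Cores.pCore_isPGroup
    (Cores.isPConstrained_iff.mp (Cores.isPConstrained_of_isPSolvable
      (Signalizer.isPSolvable_of_solvable (q := p) hK)))
    (e := π e') (by rw [← map_pow, show e' ^ p = 1 from Subtype.ext hep, map_one]) hidx'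
    (U := (U.subgroupOf K).map π)
    (by
      refine Nat.Coprime.coprime_dvd_left (card_map_dvd _ _) ?_
      rwa [Nat.card_congr (subgroupOfEquivOfLe hUK).toEquiv])
    (le_normalizer_map π ⟨e', mem_normalizer_iff.mpr fun y => mem_normalizer_iff.mp heU (y : G), rfl⟩)
    ?_
  · rw [Subgroup.map_eq_bot_iff, QuotientGroup.ker_mk'] at hbot
    rw [Signalizer.core, ← map_subgroupOf_eq_of_le hUK]
    exact Subgroup.map_mono hbot
  rintro _ ⟨u, hu, rfl⟩ hcomm
  have heUn : zpowers e ≤ normalizer (U : Set G) := zpowers_le.mpr heU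
  have hcop : (Nat.card (zpowers e)).Coprime (Nat.card U) := by
    rw [Nat.card_zpowers]
    exact hUcop.symm.coprime_dvd_left (orderOf_dvd_of_pow_eq_one hep)
  set N₀ : Subgroup G := U ⊓ Signalizer.core p K with hN₀
  have hUN₀ : U ≤ normalizer (N₀ : Set G) :=
    (le_inf le_normalizer (hUK.trans (Signalizer.le_normalizer_core K))).trans
      inf_normalizer_le_normalizer_inf
  have heN₀ : zpowers e ≤ normalizer (N₀ : Set G) :=
    (le_inf heUn ((zpowers_le.mpr (hT.1 he)).trans (Signalizer.le_normalizer_core K))).trans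
      inf_normalizer_le_normalizer_inf
  obtain ⟨c, hc, hcu⟩ := Coprime.exists_centralizer_mem_of_comm_mem heUn hcop
    (Or.inl (Coprime.isSolvable_zpowers e)) inf_le_left hUN₀ heN₀ (k := (u : G)) hu (by
      intro a ha
      obtain ⟨i, rfl⟩ := mem_zpowers_iff.mp ha
      refine mem_inf.mpr ⟨mul_mem ((mem_normalizer_iff.mp (heUn (zpow_mem (mem_zpowers e) i)) _).mp hu)
        (inv_mem (show (u : G) ∈ U from hu)), ⟨e' ^ i * u * (e' ^ i)⁻¹ * u⁻¹, ?_, by simp [he']⟩⟩
      show _ ∈ N
      rw [← QuotientGroup.eq_one_iff]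
      show π _ = 1
      rw [map_mul, map_mul, map_mul, map_inv, map_inv, map_zpow,
        ((show Commute (π e') (π u) from hcomm).zpow_left i).eq, mul_inv_cancel_right,
        mul_inv_cancel])
  have := hfix (mem_inf.mpr ⟨hc.1, mem_centralizer_singleton_iff.mpr
    (mem_centralizer_iff.mp hc.2 e (mem_zpowers e)).symm⟩)
  have huO : (u : G) ∈ Signalizer.core p K := by
    have h1 : (u : G) = c * ((u : G)⁻¹ * c)⁻¹ := by group
    rw [h1]
    exact mul_mem this (inv_mem hcu.2)
  obtain ⟨u', hu', hu''⟩ := huO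
  rw [show u = u' from Subtype.ext hu''.symm]
  exact (QuotientGroup.eq_one_iff _).mpr hu'

end Cfsg.Agent.H63.TwoGen.OddRank
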