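import Cfsg.Agent.H63.TwoGen.Basic
import Cfsg.Agent.H63.TwoGen.OddRank.Tools
import Cfsg.Agent.S0217
import Cfsg.Agent.S1958
import Cfsg.Agent.Fusion.SignalizerTrivial

/-!
The signalizer functor on the elementary subgroups of order at least `p ^ 3`, `p` odd: one value
`W` for all those in the normalizer of `W`.
-/

set_option autoImplicit false
set_option linter.unusedSectionVars false
set_option linter.style.haveILetI false

namespace Cfsg.Agent.H63.TwoGen.OddRank

open Subgroup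
open Cfsg.Agent

universe u

variable {G : Type u} [Group G] [Finite G] {p : ℕ} [hp : Fact p.Prime]

/-- `O_{p'}(C(a))`. -/
abbrev th (p : ℕ) (a : G) : Subgroup G := Cfsg.centralizerPPrimeCore p a

/-- The subgroup generated by the values on `B`. -/
def sig (p : ℕ) (B : Subgroup G) : Subgroup G := ⨆ a : {a : G // a ∈ B ∧ a ≠ 1}, th p (a : G)

/-- `T` contains an elementary abelian subgroup of order at least `p ^ 3`. -/
def Rank3 (p : ℕ) (T : Subgroup G) : Prop :=
  ∃ B ≤ T, Cfsg.IsElementaryAbelian p B ∧ p ^ 3 ≤ Nat.card B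

/-- An element of order `p` in an elementary abelian subgroup of order at least `p ^ 3` of `M`. -/
def Strong (p : ℕ) (M : Subgroup G) (e : G) : Prop :=
  orderOf e = p ∧ ∃ B ≤ M, Cfsg.IsElementaryAbelian p B ∧ p ^ 3 ≤ Nat.card B ∧ e ∈ B

/-! ### Elementary abelian subgroups -/

theorem elemAb_of_le {A B : Subgroup G} (hB : Cfsg.IsElementaryAbelian p B) (hAB : A ≤ B) :
    Cfsg.IsElementaryAbelian p A :=
  H47.elementaryAbelian_of_le hB hAB

theorem elem_commute {A : Subgroup G} (hA : Cfsg.IsElementaryAbelian p A) {a b : G} (ha : a ∈ A)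
    (hb : b ∈ A) : a * b = b * a :=
  congrArg Subtype.val (hA.1.is_comm.comm ⟨a, ha⟩ ⟨b, hb⟩)

theorem elem_ne_one {a : G} (ha : orderOf a = p) : a ≠ 1 := fun h => by
  rw [h, orderOf_one] at ha
  exact hp.out.one_lt.ne ha

theorem elem_order {A : Subgroup G} (hA : Cfsg.IsElementaryAbelian p A) {a : G} (ha : a ∈ A)
    (h1 : a ≠ 1) : orderOf a = p :=
  orderOf_eq_prime (hA.2 a ha) h1

theorem elemAb_sup {A B : Subgroup G} (hA : Cfsg.IsElementaryAbelian p A)
    (hB : Cfsg.IsElementaryAbelian p B) (h : ∀ a ∈ A, ∀ b ∈ B, a * b = b * a) :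
    Cfsg.IsElementaryAbelian p (A ⊔ B : Subgroup G) := by
  have hBA : B ≤ normalizer (A : Set G) := fun b hb =>
    centralizer_le_normalizer _ (mem_centralizer_iff.mpr fun a ha => h a ha b hb)
  have hmem : ∀ x ∈ A ⊔ B, ∃ a ∈ A, ∃ b ∈ B, x = a * b := fun x hx => by
    obtain ⟨a, ha, b, hb, hx⟩ := (Coprime.mem_sup_iff hBA).mp hx
    exact ⟨a, ha, b, hb, hx.symm⟩
  refine ⟨⟨⟨fun x y => Subtype.ext ?_⟩⟩, fun x hx => ?_⟩
  · obtain ⟨a, ha, b, hb, hxe⟩ := hmem x x.2
    obtain ⟨c, hc, d, hd, hye⟩ := hmem y y.2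
    show (x : G) * y = y * x
    rw [hxe, hye]
    have h1 : b * c = c * b := (h c hc b hb).symm
    have h2 : a * c = c * a := elem_commute hA ha hc
    have h3 : b * d = d * b := elem_commute hB hb hd
    calc a * b * (c * d) = a * (b * c) * d := by group
      _ = a * c * (b * d) := by rw [h1]; group
      _ = c * (a * d) * b := by rw [h2, h3]; group
      _ = c * d * (a * b) := by rw [h a ha d hd]; group
  · obtain ⟨a, ha, b, hb, rfl⟩ := hmem x hx
    rw [(show Commute a b from h a ha b hb).mul_pow, hA.2 a ha, hB.2 b hb, one_mul]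

theorem elemAb_zpowers {x : G} (hx : x ^ p = 1) : Cfsg.IsElementaryAbelian p (zpowers x) := by
  refine ⟨⟨⟨fun a b => Subtype.ext ?_⟩⟩, fun a ha => ?_⟩
  · obtain ⟨i, hi⟩ := mem_zpowers_iff.mp a.2
    obtain ⟨j, hj⟩ := mem_zpowers_iff.mp b.2
    show (a : G) * b = b * a
    rw [← hi, ← hj, ← zpow_add, ← zpow_add, add_comm]
  · obtain ⟨i, rfl⟩ := mem_zpowers_iff.mp ha
    rw [← zpow_natCast, zpow_comm, zpow_natCast, hx, one_zpow]

theorem elem_card {A : Subgroup G} (hA : Cfsg.IsElementaryAbelian p A) :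
    ∃ n : ℕ, Nat.card A = p ^ n :=
  IsPGroup.iff_card.mp (H47.isPGroup_of_elementaryAbelian hA)

theorem card_mul_le {A B : Subgroup G} (hB : IsPGroup p B) (h : A < B) :
    p * Nat.card A ≤ Nat.card B := by
  obtain ⟨m, hm⟩ := IsPGroup.iff_card.mp hB
  obtain ⟨n, hn⟩ := IsPGroup.iff_card.mp (hB.to_le h.le)
  have h1 : Nat.card A < Nat.card B := lt_of_le_of_ne
    (Nat.le_of_dvd Nat.card_pos (card_dvd_of_le h.le))
    fun he => h.ne (eq_of_le_of_card_ge h.le he.ge)
  rw [hn, hm, Nat.pow_lt_pow_iff_right hp.out.one_lt] at h1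
  rw [hn, hm, ← pow_succ']
  exact Nat.pow_le_pow_right hp.out.pos h1

theorem ne_bot_of_sq_le {A : Subgroup G} (hA : p ^ 2 ≤ Nat.card A) : A ≠ ⊥ := fun h => by
  rw [h, Subgroup.card_bot] at hA
  nlinarith [hp.out.one_lt]

theorem not_le_zpowers {A : Subgroup G} (hA : p ^ 2 ≤ Nat.card A) {x : G} (hx : x ^ p = 1) :
    ¬ A ≤ zpowers x := fun h => by
  have h1 := (Nat.le_of_dvd Nat.card_pos (card_dvd_of_le h)).trans (Nat.card_zpowers x).le
  have h2 := Nat.le_of_dvd hp.out.pos (orderOf_dvd_of_pow_eq_one hx)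
  nlinarith [hp.out.one_lt]

theorem exists_plane_le {A : Subgroup G} (hA : Cfsg.IsElementaryAbelian p A)
    (h : p ^ 2 ≤ Nat.card A) :
    ∃ V ≤ A, Cfsg.IsElementaryAbelian p V ∧ Nat.card V = p ^ 2 := by
  obtain ⟨V, hVc⟩ := Sylow.exists_subgroup_card_pow_prime_of_le_card hp.out
    (H47.isPGroup_of_elementaryAbelian hA) h
  exact ⟨V.map A.subtype, map_subtype_le _, elemAb_of_le hA (map_subtype_le _), by
    rw [card_map_of_injective A.subtype_injective, hVc]⟩

/-! ### The values -/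

theorem th_eq (a : G) : th p a = Signalizer.core p (centralizer ({a} : Set G)) := rfl

theorem th_le (a : G) : th p a ≤ centralizer ({a} : Set G) := map_subtype_le _

theorem not_dvd_th (a : G) : ¬ p ∣ Nat.card (th p a) := Signalizer.not_dvd_card_core _

theorem centralizer_le_normalizer_th (a : G) :
    centralizer ({a} : Set G) ≤ normalizer (th p a : Set G) := Signalizer.le_normalizer_core _

theorem th_conj (a g : G) : th p (g * a * g⁻¹) = (th p a).map (MulAut.conj g).toMonoidHom :=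
  Fusion.Signalizer.centralizerPPrimeCore_conj a g

theorem th_congr {a b : G}
    (h : centralizer ({a} : Set G) = centralizer ({b} : Set G)) : th p a = th p b := by
  rw [th_eq, th_eq, h]

theorem le_sig {B : Subgroup G} {a : G} (ha : a ∈ B) (h1 : a ≠ 1) : th p a ≤ sig p B :=
  le_iSup (fun a : {a : G // a ∈ B ∧ a ≠ 1} => th p (a : G)) ⟨a, ha, h1⟩

theorem sig_mono {A B : Subgroup G} (h : A ≤ B) : sig p A ≤ sig p B :=
  iSup_le fun a => le_sig (h a.2.1) a.2.2

theorem sig_conj (B : Subgroup G) (g : G) :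
    sig p (B.map (MulAut.conj g).toMonoidHom) = (sig p B).map (MulAut.conj g).toMonoidHom := by
  refine le_antisymm (iSup_le ?_) (map_le_iff_le_comap.mpr (iSup_le fun a => ?_))
  · rintro ⟨_, ⟨b, hb, rfl⟩, h1⟩
    have hb1 : b ≠ 1 := fun h => h1 (by rw [h, map_one])
    show th p ((MulAut.conj g).toMonoidHom b) ≤ _
    rw [MulEquiv.coe_toMonoidHom, MulAut.conj_apply, th_conj]
    exact Subgroup.map_mono (le_sig hb hb1)
  · rw [← map_le_iff_le_comap, ← th_conj]
    refine le_sig ⟨a, a.2.1, by simp⟩ fun h => a.2.2 ?_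
    rwa [conj_eq_one_iff] at h

theorem le_normalizer_sig {B : Subgroup G} (hB : Cfsg.IsElementaryAbelian p B) {x : G}
    (hx : x ∈ B) : x ∈ normalizer (sig p B : Set G) := by
  refine Coprime.mem_normalizer_of_map_conj ?_
  rw [← sig_conj, Coprime.map_conj_eq (Subgroup.le_normalizer hx)]

end Cfsg.Agent.H63.TwoGen.OddRank

namespace Cfsg.Agent.H63.TwoGen.OddRank

open Subgroup
open Cfsg.Agent

universe u

variable {G : Type u} [Group G] [Finite G] {p : ℕ} [hp : Fact p.Prime]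

theorem balance (h : Hyp G) {a b : G} (ha : orderOf a = p) (hb : orderOf b = p)
    (hab : a * b = b * a) : th p a ⊓ centralizer ({b} : Set G) ≤ th p b :=
  (S1958.result p a b ha hb hab (h.centralizer_solvable (elem_ne_one ha))
    (h.centralizer_solvable (elem_ne_one hb))).le.trans inf_le_left

theorem sig_spec (h : Hyp G) {B : Subgroup G} (hB : Cfsg.IsElementaryAbelian p B)
    (hB3 : p ^ 3 ≤ Nat.card B) :
    ¬ p ∣ Nat.card (sig p B) ∧
      ∀ a ∈ B, a ≠ 1 → sig p B ⊓ centralizer ({a} : Set G) = th p a := by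
  refine S0217.result B (fun a ha b hb => elem_commute hB ha hb) hB.2 hB3 (fun a => th p a)
    (fun a _ _ => th_le a) (fun a _ _ => not_dvd_th a) ?_ ?_ ?_
  · intro a ha _ b hb x hx
    exact (mem_normalizer_iff.mp (centralizer_le_normalizer_th a
      (mem_centralizer_singleton_iff.mpr (elem_commute hB hb ha))) x).mp hx
  · intro a _ h1
    exact Coprime.isSolvable_of_le (th_le a) (h.centralizer_solvable h1)
  · intro a ha h1 b hb hb1
    exact balance h (elem_order hB ha h1) (elem_order hB hb hb1) (elem_commute hB ha hb)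

/-- Any plane generates the same subgroup. -/
theorem sig_eq_of_plane (h : Hyp G) {B V : Subgroup G} (hB : Cfsg.IsElementaryAbelian p B)
    (hB3 : p ^ 3 ≤ Nat.card B) (hVB : V ≤ B) (hV : Nat.card V = p ^ 2) : sig p V = sig p B := by
  refine le_antisymm (sig_mono hVB) ?_
  obtain ⟨hnd, hC⟩ := sig_spec h hB hB3
  refine H47.le_of_fixed_le (elemAb_of_le hB hVB) hV (fun v hv => le_normalizer_sig hB (hVB hv)) hnd
    (fun v hv => le_normalizer_sig (elemAb_of_le hB hVB) hv) fun e he h1 => ?_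
  rw [hC e (hVB he) h1]
  exact le_sig he h1

/-- The common value and its properties. -/
structure Ctx (p : ℕ) (W : Subgroup G) : Prop where
  hyp : Hyp G
  odd : p ≠ 2
  ne : W ≠ ⊥
  not_dvd : ¬ p ∣ Nat.card W
  eq : ∀ B : Subgroup G, Cfsg.IsElementaryAbelian p B → p ^ 3 ≤ Nat.card B →
    B ≤ normalizer (W : Set G) → sig p B = W
  sylow : ∃ P : Sylow p G, (P : Subgroup G) ≤ normalizer (W : Set G) ∧ Rank3 p (P : Subgroup G)

/-- A normal plane of a `p`-group of rank at least three. -/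
theorem exists_plane (hp2 : p ≠ 2) {T : Subgroup G} (hT : IsPGroup p T) (hT3 : Rank3 p T) :
    ∃ E ≤ T, T ≤ normalizer (E : Set G) ∧ Cfsg.IsElementaryAbelian p E ∧ Nat.card E = p ^ 2 := by
  obtain ⟨A, hAn, hAc, hAe, hA3⟩ : ∃ A : Subgroup T, A.Normal ∧ IsMulCommutative A ∧
      (∀ a ∈ A, a ^ p = 1) ∧ p ^ 3 ≤ Nat.card A := by
    by_contra hc
    push Not at hc
    obtain ⟨B, hBT, hB, hB3⟩ := hT3
    have h1 := H41.card_le_sq_of_no_normal hp2 hT hc (B.subgroupOf T)
      (⟨⟨fun x y => Subtype.ext (Subtype.ext (elem_commute hB x.2 y.2))⟩⟩)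
      (fun e he => Subtype.ext (by simpa using hB.2 e he))
    rw [Nat.card_congr (subgroupOfEquivOfLe hBT).toEquiv] at h1
    nlinarith [hp.out.one_lt, pow_succ p 2]
  haveI := hAn
  obtain ⟨E, hEn, hEA, hE⟩ := PGroups.exists_normal_card_le hT A 2
    (le_trans (Nat.pow_le_pow_right hp.out.pos (by norm_num)) hA3)
  haveI := hEn
  refine ⟨E.map T.subtype, map_subtype_le _, ?_, ⟨⟨⟨fun x y => ?_⟩⟩, fun a ha => ?_⟩, by
    rw [card_map_of_injective T.subtype_injective, hE]⟩
  · intro t ht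
    refine Coprime.mem_normalizer_of_map_conj (le_antisymm ?_ ?_) <;> intro y hy
    · obtain ⟨_, ⟨w, hw, rfl⟩, rfl⟩ := hy
      exact ⟨⟨t, ht⟩ * w * ⟨t, ht⟩⁻¹, hEn.conj_mem w hw _, by simp⟩
    · obtain ⟨w, hw, rfl⟩ := hy
      refine ⟨_, ⟨⟨t, ht⟩⁻¹ * w * ⟨t, ht⟩⁻¹⁻¹, hEn.conj_mem w hw _, rfl⟩, ?_⟩
      simp [mul_assoc]
  · obtain ⟨w, hw, hwx⟩ := x.2
    obtain ⟨v, hv, hvy⟩ := y.2
    refine Subtype.ext ?_
    show (x : G) * y = y * x
    rw [← hwx, ← hvy, ← map_mul, ← map_mul,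
      PGroups.comm_of_isMulCommutative hAc (hEA hw) (hEA hv)]
  · obtain ⟨w, hw, rfl⟩ := ha
    rw [← map_pow, hAe w (hEA hw), map_one]

/-- An elementary subgroup meets the centralizer of a normal plane in index at most `p`, so the two
generate one of rank at least three. -/
theorem exists_join_plane {T : Subgroup G} (hT : IsPGroup p T) {E : Subgroup G} (hET : E ≤ T)
    (hEn : T ≤ normalizer (E : Set G)) (hE : Cfsg.IsElementaryAbelian p E)
    (hEc : Nat.card E = p ^ 2) {B : Subgroup G} (hBT : B ≤ T)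
    (hB : Cfsg.IsElementaryAbelian p B) (hB3 : p ^ 3 ≤ Nat.card B) :
    ∃ B' ≤ T, Cfsg.IsElementaryAbelian p B' ∧ p ^ 3 ≤ Nat.card B' ∧ E ≤ B' ∧
      ∃ V ≤ B ⊓ B', Nat.card V = p ^ 2 := by
  haveI : (E.subgroupOf T).Normal := normal_subgroupOf_of_le_normalizer hEn
  have h1 := H41.card_le_mul_inf_centralizer hT (E.subgroupOf T)
    (by rw [Nat.card_congr (subgroupOfEquivOfLe hET).toEquiv, hEc]) (B.subgroupOf T)
  have hle : (B.subgroupOf T ⊓ centralizer (E.subgroupOf T : Set T)).map T.subtype ≤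
      B ⊓ centralizer (E : Set G) := by
    rintro _ ⟨w, ⟨hw1, hw2⟩, rfl⟩
    exact ⟨hw1, mem_centralizer_iff.mpr fun e he =>
      congrArg Subtype.val (mem_centralizer_iff.mp hw2 ⟨e, hET he⟩ he)⟩
  rw [Nat.card_congr (subgroupOfEquivOfLe hBT).toEquiv] at h1
  set D := B ⊓ centralizer (E : Set G) with hD
  have hD2 : p ^ 2 ≤ Nat.card D := by
    have h2 := Nat.le_of_dvd Nat.card_pos (card_dvd_of_le hle)
    rw [card_map_of_injective T.subtype_injective] at h2
    have h3 : p * p ^ 2 ≤ p * Nat.card D := by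
      rw [← pow_succ']
      exact hB3.trans (h1.trans (Nat.mul_le_mul_left p h2))
    exact Nat.le_of_mul_le_mul_left h3 hp.out.pos
  have hDe := elemAb_of_le hB (inf_le_left : D ≤ B)
  have hB' : Cfsg.IsElementaryAbelian p (E ⊔ D : Subgroup G) :=
    elemAb_sup hE hDe fun e he d hd => mem_centralizer_iff.mp hd.2 e he
  obtain ⟨V, hVD, -, hVc⟩ := exists_plane_le hDe hD2
  refine ⟨E ⊔ D, sup_le hET (inf_le_left.trans hBT), hB', ?_, le_sup_left, V,
    le_inf (hVD.trans inf_le_left) (hVD.trans le_sup_right), hVc⟩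
  by_contra hlt
  have hE' : E = E ⊔ D := by
    refine lt_or_eq_of_le le_sup_left |>.resolve_left fun hl => hlt ?_
    have := card_mul_le (H47.isPGroup_of_elementaryAbelian hB') hl
    rwa [hEc, ← pow_succ'] at this
  have hDE : D = E := eq_of_le_of_card_ge (hE'.symm ▸ le_sup_right) (hEc ▸ hD2)
  have hBC : B ≤ D := le_inf le_rfl fun b hb => mem_centralizer_iff.mpr fun e he =>
    elem_commute hB (hDE ▸ he : e ∈ D).1 hb
  have h4 := hB3.trans (Nat.le_of_dvd Nat.card_pos (card_dvd_of_le (hBC.trans hDE.le)))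
  rw [hEc, Nat.pow_le_pow_iff_right hp.out.one_lt] at h4
  omega

/-- Some value on an elementary subgroup of order at least `p ^ 3` is nontrivial. -/
theorem exists_ctx (h : Hyp G) (hp2 : p ≠ 2) {B₀ : Subgroup G}
    (hB₀ : Cfsg.IsElementaryAbelian p B₀) (hB₀3 : p ^ 3 ≤ Nat.card B₀) (hne : sig p B₀ ≠ ⊥) :
    Ctx p (sig p B₀) := by
  obtain ⟨P, hP⟩ := (H47.isPGroup_of_elementaryAbelian hB₀).exists_le_sylow
  obtain ⟨E, hEP, hEn, hE, hEc⟩ := exists_plane hp2 P.isPGroup' ⟨B₀, hP, hB₀, hB₀3⟩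
  have hin : ∀ B : Subgroup G, B ≤ (P : Subgroup G) → Cfsg.IsElementaryAbelian p B →
      p ^ 3 ≤ Nat.card B → sig p B = sig p E := by
    intro B hBP hB hB3
    obtain ⟨B', hB'P, hB', hB'3, hEB', V, hV, hVc⟩ :=
      exists_join_plane P.isPGroup' hEP hEn hE hEc hBP hB hB3
    rw [← sig_eq_of_plane h hB hB3 (hV.trans inf_le_left) hVc,
      sig_eq_of_plane h hB' hB'3 (hV.trans inf_le_right) hVc,
      ← sig_eq_of_plane h hB' hB'3 hEB' hEc]
  have hW : sig p B₀ = sig p E := hin B₀ hP hB₀ hB₀3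
  have hPM : (P : Subgroup G) ≤ normalizer (sig p B₀ : Set G) := fun x hx => by
    refine Coprime.mem_normalizer_of_map_conj ?_
    rw [← sig_conj, hW, hin _ ?_ ?_ ?_]
    · rintro _ ⟨b, hb, rfl⟩
      exact mul_mem (mul_mem hx (hP hb)) (inv_mem hx)
    · refine ⟨⟨⟨?_⟩⟩, ?_⟩
      · rintro ⟨_, a, ha, rfl⟩ ⟨_, b, hb, rfl⟩
        refine Subtype.ext ?_
        show (MulAut.conj x).toMonoidHom a * (MulAut.conj x).toMonoidHom b = _
        rw [← map_mul, elem_commute hB₀ ha hb, map_mul]; rfl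
      · rintro _ ⟨a, ha, rfl⟩
        rw [← map_pow, hB₀.2 a ha, map_one]
    · rwa [Coprime.card_map_conj]
  refine ⟨h, hp2, hne, (sig_spec h hB₀ hB₀3).1, fun B hB hB3 hBM => ?_, P, hPM,
    B₀, hP, hB₀, hB₀3⟩
  set M := normalizer (sig p B₀ : Set G) with hM
  obtain ⟨Q, hQ⟩ := ((H47.isPGroup_of_elementaryAbelian hB).comap_subtype (K := M)).exists_le_sylow
  obtain ⟨m, hm⟩ := MulAction.exists_smul_eq M Q (P.subtype hPM)
  have hle : B.map (MulAut.conj (m : G)).toMonoidHom ≤ (P : Subgroup G) := by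
    rintro _ ⟨b, hb, rfl⟩
    have h1 : MulAut.conj m ⟨b, hBM hb⟩ ∈ ((m • Q : Sylow p M) : Subgroup M) :=
      Subgroup.smul_mem_pointwise_smul _ _ _ (hQ hb)
    rw [hm] at h1
    exact h1
  have h2 := hin _ hle (by
    refine ⟨⟨⟨?_⟩⟩, ?_⟩
    · rintro ⟨_, a, ha, rfl⟩ ⟨_, b, hb, rfl⟩
      refine Subtype.ext ?_
      show (MulAut.conj (m : G)).toMonoidHom a * (MulAut.conj (m : G)).toMonoidHom b = _
      rw [← map_mul, elem_commute hB ha hb, map_mul]; rfl
    · rintro _ ⟨a, ha, rfl⟩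
      rw [← map_pow, hB.2 a ha, map_one]) (by rwa [Coprime.card_map_conj])
  rw [sig_conj, ← hW] at h2
  refine Subgroup.map_injective (f := (MulAut.conj (m : G)).toMonoidHom)
    (MulAut.conj (m : G)).injective ?_
  rw [← Coprime.map_conj_eq (g := (m : G)) (H := sig p B₀) m.2] at h2
  exact h2

namespace Ctx

variable {W : Subgroup G}

theorem ne_top (c : Ctx p W) : normalizer (W : Set G) ≠ ⊤ := by
  refine c.hyp.normalizer_ne_top c.ne fun hW => c.not_dvd ?_
  obtain ⟨P, -, B, -, hB, hB3⟩ := c.sylow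
  rw [hW, card_top]
  obtain ⟨n, hn⟩ := elem_card hB
  have hn0 : n ≠ 0 := fun h0 => by
    rw [hn, h0, pow_zero] at hB3
    nlinarith [hp.out.one_lt, pow_succ p 2, pow_succ p 1]
  exact ((dvd_pow_self p hn0).trans hn.symm.dvd).trans B.card_subgroup_dvd_card

theorem solvable (c : Ctx p W) : Group.IsSolvable ↥(normalizer (W : Set G)) :=
  c.hyp.proper_solvable _ c.ne_top

theorem exists_sylow (c : Ctx p W) {T : Subgroup G} (hT : IsPGroup p T)
    (hTM : T ≤ normalizer (W : Set G)) :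
    ∃ P : Sylow p G, T ≤ (P : Subgroup G) ∧ (P : Subgroup G) ≤ normalizer (W : Set G) ∧
      Rank3 p (P : Subgroup G) := by
  obtain ⟨P, hPM, B, hBP, hB, hB3⟩ := c.sylow
  set M := normalizer (W : Set G) with hM
  obtain ⟨Q, hQ⟩ := (hT.comap_subtype (K := M)).exists_le_sylow
  obtain ⟨m, hm⟩ := MulAction.exists_smul_eq M (P.subtype hPM) Q
  refine ⟨(m : G) • P, fun t ht => ?_, fun x hx => ?_, B.map (MulAut.conj (m : G)).toMonoidHom,
    ?_, ?_, by rwa [Coprime.card_map_conj]⟩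
  · have h1 : (⟨t, hTM ht⟩ : M) ∈ (Q : Subgroup M) := hQ ht
    rw [← hm] at h1
    obtain ⟨w, hw, hwt⟩ := h1
    exact ⟨(w : G), hw, congrArg Subtype.val hwt⟩
  · obtain ⟨w, hw, rfl⟩ := hx
    exact mul_mem (mul_mem m.2 (hPM hw)) (inv_mem m.2)
  · exact Subgroup.map_mono hBP
  · refine ⟨⟨⟨?_⟩⟩, ?_⟩
    · rintro ⟨_, a, ha, rfl⟩ ⟨_, b, hb, rfl⟩
      refine Subtype.ext ?_
      show (MulAut.conj (m : G)).toMonoidHom a * (MulAut.conj (m : G)).toMonoidHom b = _
      rw [← map_mul, elem_commute hB ha hb, map_mul]; rfl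
    · rintro _ ⟨a, ha, rfl⟩
      rw [← map_pow, hB.2 a ha, map_one]

theorem th_of_mem (c : Ctx p W) {B : Subgroup G} (hB : Cfsg.IsElementaryAbelian p B)
    (hB3 : p ^ 3 ≤ Nat.card B) (hBM : B ≤ normalizer (W : Set G)) {a : G} (ha : a ∈ B)
    (h1 : a ≠ 1) : W ⊓ centralizer ({a} : Set G) = th p a := by
  rw [← c.eq B hB hB3 hBM]
  exact (sig_spec c.hyp hB hB3).2 a ha h1

theorem th_strong (c : Ctx p W) {e : G} (he : Strong p (normalizer (W : Set G)) e) :
    W ⊓ centralizer ({e} : Set G) = th p e := by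
  obtain ⟨ho, B, hBM, hB, hB3, heB⟩ := he
  exact c.th_of_mem hB hB3 hBM heB (elem_ne_one ho)

theorem th_strong_le (c : Ctx p W) {e : G} (he : Strong p (normalizer (W : Set G)) e) :
    th p e ≤ W := (c.th_strong he).ge.trans inf_le_left

/-- The normalizer of a `p`-subgroup of rank three of the normalizer lies in it. -/
theorem normalizer_le (c : Ctx p W) {T : Subgroup G} (hTM : T ≤ normalizer (W : Set G))
    (hT : Rank3 p T) : normalizer (T : Set G) ≤ normalizer (W : Set G) := by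
  obtain ⟨B, hBT, hB, hB3⟩ := hT
  intro n hn
  refine Coprime.mem_normalizer_of_map_conj ?_
  have hB' : Cfsg.IsElementaryAbelian p (B.map (MulAut.conj n).toMonoidHom) := by
    refine ⟨⟨⟨?_⟩⟩, ?_⟩
    · rintro ⟨_, a, ha, rfl⟩ ⟨_, b, hb, rfl⟩
      refine Subtype.ext ?_
      show (MulAut.conj n).toMonoidHom a * (MulAut.conj n).toMonoidHom b = _
      rw [← map_mul, elem_commute hB ha hb, map_mul]; rfl
    · rintro _ ⟨a, ha, rfl⟩
      rw [← map_pow, hB.2 a ha, map_one]
  have h1 := c.eq _ hB' (by rwa [Coprime.card_map_conj])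
    ((Subgroup.map_mono hBT).trans ((Coprime.map_conj_eq hn).le.trans hTM))
  rwa [sig_conj, c.eq B hB hB3 (hBT.trans hTM)] at h1

/-- An element of order `p` commuting with an elementary subgroup of order `p ^ 3` is strong. -/
theorem strong_of_commute (c : Ctx p W) {B : Subgroup G} (hB : Cfsg.IsElementaryAbelian p B)
    (hB3 : p ^ 3 ≤ Nat.card B) (hBM : B ≤ normalizer (W : Set G)) {z : G}
    (hz : z ∈ normalizer (W : Set G)) (hzo : orderOf z = p) (hc : ∀ b ∈ B, b * z = z * b) :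
    Strong p (normalizer (W : Set G)) z := by
  refine ⟨hzo, B ⊔ zpowers z, sup_le hBM (zpowers_le.mpr hz), elemAb_sup hB
    (elemAb_zpowers (hzo ▸ pow_orderOf_eq_one z)) fun b hb w hw => ?_,
    hB3.trans (Nat.le_of_dvd Nat.card_pos (card_dvd_of_le le_sup_left)),
    mem_sup_right (mem_zpowers z)⟩
  obtain ⟨i, rfl⟩ := mem_zpowers_iff.mp hw
  exact ((show Commute b z from hc b hb).zpow_right i).eq

theorem card_le_sq_of_not_strong {L M : Subgroup G} {y : G}
    (hy : orderOf y = p) (hns : ¬ Strong p M y) (hLM : L ≤ M)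
    (hL : Cfsg.IsElementaryAbelian p L) (hyL : y ∈ L) : Nat.card L ≤ p ^ 2 := by
  obtain ⟨n, hn⟩ := elem_card hL
  by_contra hlt
  rw [hn, Nat.pow_le_pow_iff_right hp.out.one_lt, not_le] at hlt
  exact hns ⟨hy, L, hLM, hL, hn ▸ Nat.pow_le_pow_right hp.out.pos hlt, hyL⟩

/-- The central elements of order `p` of a Sylow subgroup of rank three are strong. -/
theorem strong_of_central (c : Ctx p W) {P : Subgroup G} (hPM : P ≤ normalizer (W : Set G))
    (hP : Rank3 p P) {z : G} (hz : z ∈ P) (hzo : orderOf z = p)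
    (hzc : ∀ x ∈ P, x * z = z * x) : Strong p (normalizer (W : Set G)) z := by
  obtain ⟨B, hBP, hB, hB3⟩ := hP
  exact c.strong_of_commute hB hB3 (hBP.trans hPM) (hPM hz) hzo fun b hb => hzc b (hBP hb)

/-- The `p'`-core of the normalizer is `W`. -/
theorem core_le (c : Ctx p W) : Signalizer.core p (normalizer (W : Set G)) ≤ W := by
  obtain ⟨P, hPM, B, hBP, hB, hB3⟩ := c.sylow
  set M := normalizer (W : Set G) with hM
  set O := Signalizer.core p M with hO
  have hBM : B ≤ M := hBP.trans hPM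
  obtain ⟨V, hVB, hV, hVc⟩ := exists_plane_le hB
    ((Nat.pow_le_pow_right hp.out.pos (by norm_num)).trans hB3)
  have hOM : M ≤ normalizer (O : Set G) := Signalizer.le_normalizer_core M
  refine H47.le_of_fixed_le hV hVc ((hVB.trans hBM).trans hOM) (Signalizer.not_dvd_card_core M)
    (hVB.trans hBM) fun e he h1 => ?_
  have heS : Strong p M e := ⟨elem_order hV he h1, B, hBM, hB, hB3, hVB he⟩
  -- a Sylow subgroup of the centralizer of `e` lies in `M`
  obtain ⟨T, hTC, hT⟩ : ∃ T, T ≤ M ⊓ centralizer ({e} : Set G) ∧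
      H40.IsSylowOf p T (centralizer ({e} : Set G)) := by
    have hBC : B ≤ M ⊓ centralizer ({e} : Set G) := le_inf hBM fun b hb =>
      mem_centralizer_singleton_iff.mpr (elem_commute hB hb (hVB he))
    obtain ⟨T, hBT, hT⟩ := exists_sylowOf_ge hBC (H47.isPGroup_of_elementaryAbelian hB)
    exact ⟨T, hT.1, isSylowOf_of_normalizer hT
      (inf_le_left.trans (c.normalizer_le (hT.1.trans inf_le_left) ⟨B, hBT, hB, hB3⟩))⟩
  have hU : O ⊓ centralizer ({e} : Set G) ≤ th p e := by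
    rw [th_eq]
    refine Signalizer.le_core_of_sylow (c.hyp.centralizer_solvable h1) hT inf_le_right ?_ ?_
    · exact fun hd => Signalizer.not_dvd_card_core M (hd.trans (card_dvd_of_le inf_le_left))
    · exact (le_inf ((hTC.trans inf_le_left).trans hOM)
        ((hTC.trans inf_le_right).trans le_normalizer)).trans inf_normalizer_le_normalizer_inf
  exact hU.trans (c.th_strong_le heS)

end Ctx

end Cfsg.Agent.H63.TwoGen.OddRank
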