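import Cfsg.Agent.H63.TwoGen.OddRank.Sig

/-!
The centralizers of strong elements and the normalizers of noncyclic `p`-subgroups of the
normalizer of `W` lie in it.
-/

set_option autoImplicit false
set_option linter.unusedSectionVars false
set_option linter.style.haveILetI false

namespace Cfsg.Agent.H63.TwoGen.OddRank

open Subgroup
open Cfsg.Agent
open scoped commutatorElement

universe u

variable {G : Type u} [Group G] [Finite G] {p : ℕ} [hp : Fact p.Prime]

theorem le_normalizer_sup {T A B : Subgroup G} (hA : T ≤ normalizer (A : Set G))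
    (hB : T ≤ normalizer (B : Set G)) : T ≤ normalizer ((A ⊔ B : Subgroup G) : Set G) :=
  fun g hg => Coprime.mem_normalizer_of_map_conj (by
    rw [Subgroup.map_sup, Coprime.map_conj_eq (hA hg), Coprime.map_conj_eq (hB hg)])

theorem le_normalizer_zpowers_of_commute {T : Subgroup G} {z : G} (h : ∀ x ∈ T, x * z = z * x) :
    T ≤ normalizer (zpowers z : Set G) := fun x hx =>
  centralizer_le_normalizer _ (mem_centralizer_iff.mpr fun w hw => by
    obtain ⟨i, rfl⟩ := mem_zpowers_iff.mp hw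
    exact ((show Commute x z from h x hx).zpow_right i).eq.symm)

theorem commute_zpowers {T : Subgroup G} {z : G} (h : ∀ x ∈ T, x * z = z * x) :
    ∀ x ∈ T, ∀ w ∈ zpowers z, x * w = w * x := fun x hx w hw => by
  obtain ⟨i, rfl⟩ := mem_zpowers_iff.mp hw
  exact ((show Commute x z from h x hx).zpow_right i).eq

/-- A normal elementary subgroup of order at least `p ^ 3`. -/
theorem exists_normal_rank3 (hp2 : p ≠ 2) {T : Subgroup G} (hT : IsPGroup p T) (hT3 : Rank3 p T) :
    ∃ A ≤ T, T ≤ normalizer (A : Set G) ∧ Cfsg.IsElementaryAbelian p A ∧ p ^ 3 ≤ Nat.card A := by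
  obtain ⟨A, hAn, hAc, hAe, hA3⟩ : ∃ A : Subgroup T, A.Normal ∧ IsMulCommutative A ∧
      (∀ a ∈ A, a ^ p = 1) ∧ p ^ 3 ≤ Nat.card A := by
    by_contra hc
    push Not at hc
    obtain ⟨B, hBT, hB, hB3⟩ := hT3
    have h1 := H41.card_le_sq_of_no_normal hp2 hT hc (B.subgroupOf T)
      (⟨⟨fun x y => Subtype.ext (Subtype.ext (elem_commute hB x.2 y.2))⟩⟩)
      (fun e he => Subtype.ext (by simpa using hB.2 e he))
    rw [Nat.card_congr (subgroupOfEquivOfLe hBT).toEquiv] at h1
    nlinarith [hp.out.one_lt, pow_succ p 2]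
  refine ⟨A.map T.subtype, map_subtype_le _, ?_, ⟨⟨⟨fun x y => ?_⟩⟩, fun a ha => ?_⟩, by
    rwa [card_map_of_injective T.subtype_injective]⟩
  · intro t ht
    refine Coprime.mem_normalizer_of_map_conj (le_antisymm ?_ ?_) <;> intro y hy
    · obtain ⟨_, ⟨w, hw, rfl⟩, rfl⟩ := hy
      exact ⟨⟨t, ht⟩ * w * ⟨t, ht⟩⁻¹, hAn.conj_mem w hw _, by simp⟩
    · obtain ⟨w, hw, rfl⟩ := hy
      refine ⟨_, ⟨⟨t, ht⟩⁻¹ * w * ⟨t, ht⟩⁻¹⁻¹, hAn.conj_mem w hw _, rfl⟩, ?_⟩
      simp [mul_assoc]
  · obtain ⟨w, hw, hwx⟩ := x.2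
    obtain ⟨v, hv, hvy⟩ := y.2
    refine Subtype.ext ?_
    show (x : G) * y = y * x
    rw [← hwx, ← hvy, ← map_mul, ← map_mul, PGroups.comm_of_isMulCommutative hAc hw hv]
  · obtain ⟨w, hw, rfl⟩ := ha
    rw [← map_pow, hAe w hw, map_one]

/-- A central element of order `p`. -/
theorem exists_central {P : Subgroup G} (hP : IsPGroup p P) (hne : P ≠ ⊥) :
    ∃ z ∈ P, orderOf z = p ∧ ∀ x ∈ P, x * z = z * x := by
  haveI : Nontrivial P := (nontrivial_iff_ne_bot P).mpr hne
  haveI := hP.center_nontrivial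
  obtain ⟨z, hz, hzo⟩ := PGroups.exists_orderOf_eq hP
    ((nontrivial_iff_ne_bot (Subgroup.center P)).mp inferInstance)
  exact ⟨z, z.2, by rw [Subgroup.orderOf_coe, hzo], fun x hx =>
    congrArg Subtype.val (Subgroup.mem_center_iff.mp hz ⟨x, hx⟩)⟩

theorem rank3_ne_bot {T : Subgroup G} (h : Rank3 p T) : T ≠ ⊥ := by
  obtain ⟨B, hBT, -, hB3⟩ := h
  intro hT
  exact ne_bot_of_sq_le ((Nat.pow_le_pow_right hp.out.pos (by norm_num)).trans hB3)
    (le_bot_iff.mp (hT ▸ hBT))

theorem card_le_sq_of_not_rank3 {T A : Subgroup G} (hT : ¬ Rank3 p T) (hAT : A ≤ T)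
    (hA : Cfsg.IsElementaryAbelian p A) : Nat.card A ≤ p ^ 2 := by
  obtain ⟨n, hn⟩ := elem_card hA
  by_contra hlt
  rw [hn, Nat.pow_le_pow_iff_right hp.out.one_lt, not_le] at hlt
  exact hT ⟨A, hAT, hA, hn ▸ Nat.pow_le_pow_right hp.out.pos hlt⟩

/-- An element commuting with a plane lies in it when the two cannot generate more. -/
theorem mem_of_card_le {A : Subgroup G} (hA : Cfsg.IsElementaryAbelian p A)
    (hA2 : p ^ 2 ≤ Nat.card A) {x : G} (hx : x ^ p = 1) (hc : ∀ a ∈ A, a * x = x * a)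
    (h : Nat.card ↥(A ⊔ zpowers x) ≤ p ^ 2) : x ∈ A := by
  have he : A = A ⊔ zpowers x := eq_of_le_of_card_ge le_sup_left (h.trans hA2)
  rw [he]; exact mem_sup_right (mem_zpowers x)

theorem zpowers_eq_of_mem {a b : G} (ha : orderOf a = p) (hb : orderOf b = p)
    (h : a ∈ zpowers b) : zpowers a = zpowers b :=
  eq_of_le_of_card_ge (zpowers_le.mpr h) (by rw [Nat.card_zpowers, Nat.card_zpowers, ha, hb])

namespace Ctx

variable {W : Subgroup G}

/-- The centralizer of a strong element lies in the normalizer. -/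
theorem centralizer_le (c : Ctx p W) {e : G} (he : Strong p (normalizer (W : Set G)) e) :
    centralizer ({e} : Set G) ≤ normalizer (W : Set G) := by
  classical
  set M := normalizer (W : Set G) with hM
  set K := centralizer ({e} : Set G) with hK
  have hWM : W ≤ M := Subgroup.le_normalizer
  have he' := he
  obtain ⟨ho, B, hBM, hB, hB3, heB⟩ := he'
  have hKs : Group.IsSolvable K := c.hyp.centralizer_solvable (elem_ne_one ho)
  have hep : e ^ p = 1 := ho ▸ pow_orderOf_eq_one e
  have hBK : B ≤ M ⊓ K := le_inf hBM fun b hb =>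
    mem_centralizer_singleton_iff.mpr (elem_commute hB hb heB)
  obtain ⟨T, hBT, hT0⟩ := exists_sylowOf_ge hBK (H47.isPGroup_of_elementaryAbelian hB)
  have hTM : T ≤ M := hT0.1.trans inf_le_left
  have hT : H40.IsSylowOf p T K := isSylowOf_of_normalizer hT0
    (inf_le_left.trans (c.normalizer_le hTM ⟨B, hBT, hB, hB3⟩))
  set R := T ⊓ opp p K with hR
  have hth : th p e ≤ M := (c.th_strong_le he).trans hWM
  suffices key : K ⊓ normalizer (R : Set G) ≤ M from
    (le_core_sup_normalizer hKs hT).trans (sup_le hth key)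
  rintro n ⟨hnK, hnR⟩
  by_cases hR3 : Rank3 p R
  · exact c.normalizer_le (inf_le_left.trans hTM) hR3 hnR
  obtain ⟨P, hTP, hPM, hP3⟩ := c.exists_sylow hT.2.1 hTM
  obtain ⟨z, hzP, hzo, hzc⟩ := exists_central P.isPGroup' (rank3_ne_bot hP3)
  have hzp : z ^ p = 1 := hzo ▸ pow_orderOf_eq_one z
  have heT : e ∈ T := hBT heB
  have hzK : z ∈ K := mem_centralizer_singleton_iff.mpr (hzc e (hTP heT)).symm
  have hzT : z ∈ T := (hT.eq_of_le (P.isPGroup'.to_le (sup_le hTP (zpowers_le.mpr hzP)))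
    le_sup_left (sup_le hT.1 (zpowers_le.mpr hzK))).symm ▸ mem_sup_right (mem_zpowers z)
  have hTz : ∀ x ∈ T, x * z = z * x := fun x hx => hzc x (hTP hx)
  have hTe : ∀ x ∈ T, x * e = e * x := fun x hx => mem_centralizer_singleton_iff.mp (hT.1 hx)
  have heR : e ∈ R := ⟨heT, mem_opp_of_centralizes hKs hT heT fun r hr => hTe r hr.1⟩
  have hzR : z ∈ R := ⟨hzT, mem_opp_of_centralizes hKs hT hzT fun r hr => hTz r hr.1⟩
  obtain ⟨A₀, hA₀T, hA₀n, hA₀, hA₀3⟩ :=
    exists_normal_rank3 c.odd hT.2.1 ⟨B, hBT, hB, hB3⟩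
  set A := A₀ ⊔ zpowers e ⊔ zpowers z with hA'
  have hAT : A ≤ T := sup_le (sup_le hA₀T (zpowers_le.mpr heT)) (zpowers_le.mpr hzT)
  have hAe : Cfsg.IsElementaryAbelian p A := by
    refine elemAb_sup (elemAb_sup hA₀ (elemAb_zpowers hep)
      fun a ha w hw => commute_zpowers hTe a (hA₀T ha) w hw) (elemAb_zpowers hzp)
      fun a ha w hw => commute_zpowers hTz a ?_ w hw
    exact sup_le hA₀T (zpowers_le.mpr heT) ha
  have hA3 : p ^ 3 ≤ Nat.card A := hA₀3.trans
    (Nat.le_of_dvd Nat.card_pos (card_dvd_of_le (le_sup_left.trans le_sup_left)))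
  have hAn : T ≤ normalizer (A : Set G) :=
    le_normalizer_sup (le_normalizer_sup hA₀n (le_normalizer_zpowers_of_commute hTe))
      (le_normalizer_zpowers_of_commute hTz)
  have hRn : T ≤ normalizer (R : Set G) :=
    (le_inf Subgroup.le_normalizer (hT.1.trans (le_normalizer_opp K))).trans
      inf_normalizer_le_normalizer_inf
  have hAM : A ≤ M := hAT.trans hTM
  have hstrong : ∀ a ∈ A, a ≠ 1 → Strong p M a := fun a ha h1 =>
    ⟨elem_order hAe ha h1, A, hAM, hAe, hA3, ha⟩
  set V := A ⊓ R with hV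
  have hVe := elemAb_of_le hAe (inf_le_left : V ≤ A)
  have heV : e ∈ V := ⟨mem_sup_left (mem_sup_right (mem_zpowers e)), heR⟩
  have hzV : z ∈ V := ⟨mem_sup_right (mem_zpowers z), hzR⟩
  have hVn : T ≤ normalizer (V : Set G) :=
    (le_inf hAn hRn).trans inf_normalizer_le_normalizer_inf
  have hVlt : zpowers e < V := by
    refine lt_of_le_of_ne (zpowers_le.mpr heV) fun hVE => hR3 ⟨A, ?_, hAe, hA3⟩
    refine le_inf hAT fun a ha => mem_opp_of_series hKs hT heT
      (fun k hk => (mem_centralizer_singleton_iff.mp hk).symm) (hAT ha) fun r hr => ?_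
    rw [hVE]
    refine mem_inf.mpr ⟨?_, ?_⟩
    · rw [commutatorElement_def]
      exact mul_mem (Coprime.conj_mem (hAn hr.1) ha) (inv_mem ha)
    · rw [commutatorElement_def, mul_assoc r a, mul_assoc r]
      exact mul_mem hr (Coprime.conj_mem (hRn (hAT ha)) (inv_mem hr))
  have hVc : Nat.card V = p ^ 2 := by
    refine le_antisymm (card_le_sq_of_not_rank3 hR3 inf_le_right hVe) ?_
    have := card_mul_le (H47.isPGroup_of_elementaryAbelian hVe) hVlt
    rwa [Nat.card_zpowers, ho, ← pow_two] at this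
  -- it is enough that the conjugate of `W` lies in `W`
  set W' := W.map (MulAut.conj n⁻¹).toMonoidHom with hW'
  suffices hle : W' ≤ W by
    have heq : W' = W := eq_of_le_of_card_ge hle (by rw [hW', Coprime.card_map_conj])
    have := Coprime.mem_normalizer_of_map_conj heq
    simpa using inv_mem this
  have hVW' : V ≤ normalizer (W' : Set G) := by
    intro v hv
    have h1 : n * v * n⁻¹ ∈ M := hTM ((mem_normalizer_iff.mp hnR v).mp hv.2).1
    refine Coprime.mem_normalizer_of_map_conj ?_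
    rw [hW', Coprime.map_conj_map_conj, show v * n⁻¹ = n⁻¹ * (n * v * n⁻¹) by group,
      ← Coprime.map_conj_map_conj, Coprime.map_conj_eq h1]
  have hW'p : ¬ p ∣ Nat.card W' := by rw [hW', Coprime.card_map_conj]; exact c.not_dvd
  refine H47.le_of_fixed_le hVe hVc hVW' hW'p ((inf_le_left.trans hAM) : V ≤ M) fun v hv hv1 => ?_
  have hvo : orderOf v = p := elem_order hVe hv hv1
  set v' := n * v * n⁻¹ with hv'
  have hv'R : v' ∈ R := (mem_normalizer_iff.mp hnR v).mp hv.2
  have hne' : n * e * n⁻¹ = e := by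
    rw [mem_centralizer_singleton_iff.mp hnK, mul_inv_cancel_right]
  have hv'p : v' ^ p = 1 := by rw [hv', conj_pow, hVe.2 v hv, mul_one, mul_inv_cancel]
  by_cases hv'A : v' ∈ A
  · rintro _ ⟨⟨w, hw, rfl⟩, hxc⟩
    have hv'1 : v' ≠ 1 := fun h => hv1 (conj_eq_one_iff.mp h)
    have hwc : w ∈ W ⊓ centralizer ({v'} : Set G) := by
      refine ⟨hw, mem_centralizer_singleton_iff.mpr ?_⟩
      have h1 := mem_centralizer_singleton_iff.mp hxc
      simp only [MulEquiv.coe_toMonoidHom, MulAut.conj_apply, inv_inv] at h1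
      calc w * v' = n * ((n⁻¹ * w * n) * v) * n⁻¹ := by rw [hv']; group
        _ = n * (v * (n⁻¹ * w * n)) * n⁻¹ := by rw [h1]
        _ = v' * w := by rw [hv']; group
    rw [c.th_strong (hstrong v' hv'A hv'1), hv', th_conj] at hwc
    obtain ⟨u, hu, huw⟩ := hwc
    refine c.th_strong_le (hstrong v hv.1 hv1) ?_
    have : (MulAut.conj n⁻¹).toMonoidHom w = u := by
      rw [← huw]; simp [mul_assoc]
    rw [this]; exact hu
  -- now `e` is central in a Sylow subgroup
  have hnc : ¬ ∀ a ∈ V, a * v' = v' * a := fun hc => hv'A (mem_of_card_le hVe hVc.ge hv'p hc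
    (card_le_sq_of_not_rank3 hR3 (sup_le inf_le_right (zpowers_le.mpr hv'R))
      (elemAb_sup hVe (elemAb_zpowers hv'p) fun a ha w hw => by
        obtain ⟨i, rfl⟩ := mem_zpowers_iff.mp hw
        exact ((show Commute a v' from hc a ha).zpow_right i).eq))).1
  have hze : z ∈ zpowers e := by
    by_contra hze
    refine hnc ?_
    have hVeq : V = zpowers e ⊔ zpowers z := by
      refine (eq_of_le_of_card_ge (sup_le (zpowers_le.mpr heV) (zpowers_le.mpr hzV)) ?_).symm
      have hlt : zpowers e < zpowers e ⊔ zpowers z :=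
        lt_of_le_of_ne le_sup_left fun h => hze (h ▸ mem_sup_right (mem_zpowers z))
      have := card_mul_le ((H47.isPGroup_of_elementaryAbelian hVe).to_le
        (sup_le (zpowers_le.mpr heV) (zpowers_le.mpr hzV))) hlt
      rwa [Nat.card_zpowers, ho, ← pow_two, ← hVc] at this
    rw [hVeq]
    have hle : zpowers e ⊔ zpowers z ≤ centralizer ({v'} : Set G) := sup_le
      (zpowers_le.mpr (mem_centralizer_singleton_iff.mpr (hTe v' hv'R.1).symm))
      (zpowers_le.mpr (mem_centralizer_singleton_iff.mpr (hTz v' hv'R.1).symm))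
    exact fun a ha => mem_centralizer_singleton_iff.mp (hle ha)
  have hPT : (P : Subgroup G) = T := by
    refine (hT.eq_of_le P.isPGroup' hTP fun x hx => mem_centralizer_singleton_iff.mpr ?_).symm
    exact commute_zpowers hzc x hx e
      ((zpowers_eq_of_mem hzo ho hze).symm ▸ mem_zpowers e)
  have hvne : v ∉ zpowers e := fun hve => hv'A (by
    obtain ⟨i, rfl⟩ := mem_zpowers_iff.mp hve
    rw [hv', ← conj_zpow, hne']
    exact zpow_mem (mem_inf.mp heV).1 i)
  -- the centralizer of `v` in the Sylow subgroup has index at most `p`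
  set D := T ⊓ centralizer ({v} : Set G) with hD
  have hDidx : D.relIndex T ≤ p := by
    haveI : (V.subgroupOf T).Normal := normal_subgroupOf_of_le_normalizer hVn
    have h1 := PGroups.index_centralizer_le hT.2.1 2 (V.subgroupOf T)
      (by rw [Nat.card_congr (subgroupOfEquivOfLe (inf_le_left.trans hAT)).toEquiv, hVc])
    rw [show (2 : ℕ).choose 2 = 1 from rfl, pow_one] at h1
    refine le_trans (Nat.le_of_dvd (Nat.pos_of_ne_zero Subgroup.index_ne_zero_of_finite) ?_) h1
    refine Subgroup.index_dvd_of_le fun x hx => ⟨x.2, mem_centralizer_singleton_iff.mpr ?_⟩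
    exact (congrArg Subtype.val
      (mem_centralizer_iff.mp hx ⟨v, hAT hv.1⟩ hv)).symm
  obtain ⟨Tv, hDTv, hTv⟩ := exists_sylowOf_ge (inf_le_right : D ≤ centralizer ({v} : Set G))
    (hT.2.1.to_le inf_le_left)
  have heD : e ∈ D := ⟨heT, mem_centralizer_singleton_iff.mpr (hTe v (hAT hv.1)).symm⟩
  have hidx : (centralizer ({e} : Set G)).relIndex
      (Tv ⊓ opp p (centralizer ({v} : Set G))) ≤ p := by
    refine le_trans (relIndex_le_of_le_right inf_le_left
      (fun h0 => Subgroup.index_ne_zero_of_finite h0)) ?_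
    refine le_trans (Nat.le_of_dvd (Nat.pos_of_ne_zero fun h0 =>
      Subgroup.index_ne_zero_of_finite h0) (relIndex_dvd_of_le_left Tv
        (show D ≤ centralizer ({e} : Set G) from inf_le_left.trans hT.1))) ?_
    have hcT : Nat.card Tv ≤ Nat.card T := by
      obtain ⟨Q, hQ⟩ := hTv.2.1.exists_le_sylow
      refine (Nat.le_of_dvd Nat.card_pos (card_dvd_of_le hQ)).trans (le_of_eq ?_)
      rw [← hPT, Sylow.card_eq_multiplicity, Sylow.card_eq_multiplicity]
    have e1 : Nat.card D * D.relIndex Tv = Nat.card Tv := by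
      rw [← relIndex_bot_left, ← relIndex_bot_left, relIndex_mul_relIndex _ _ _ bot_le hDTv]
    have e2 : Nat.card D * D.relIndex T = Nat.card T := by
      rw [← relIndex_bot_left, ← relIndex_bot_left, relIndex_mul_relIndex _ _ _ bot_le inf_le_left]
    exact (Nat.le_of_mul_le_mul_left (e1.le.trans (hcT.trans e2.ge)) Nat.card_pos).trans hDidx
  refine (le_core_of_transvection c.odd (c.hyp.centralizer_solvable hv1) hTv (hDTv heD) hep hidx
    inf_le_right (fun hd => hW'p (hd.trans (card_dvd_of_le inf_le_left))) ?_ ?_).trans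
    (c.th_strong_le (hstrong v hv.1 hv1))
  · exact (le_inf (hVW'.trans' (zpowers_le.mpr heV)) ((zpowers_le.mpr heD.2).trans
      Subgroup.le_normalizer)).trans inf_normalizer_le_normalizer_inf (mem_zpowers e)
  rintro x ⟨⟨hxW', hxv⟩, hxe⟩
  obtain ⟨w, hw, rfl⟩ := hxW'
  have hxth : (MulAut.conj n⁻¹).toMonoidHom w ∈ th p e := by
    have hwe : w ∈ W ⊓ centralizer ({e} : Set G) := by
      refine ⟨hw, ?_⟩
      have h1 := Subgroup.mul_mem _ (Subgroup.mul_mem _ hnK hxe) (Subgroup.inv_mem _ hnK)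
      simpa [mul_assoc] using h1
    rw [c.th_strong he] at hwe
    have h2 := (mem_normalizer_iff.mp (centralizer_le_normalizer_th e (inv_mem hnK)) w).mp hwe
    simpa using h2
  exact balance c.hyp ho hvo (hTe v (hAT hv.1)).symm ⟨hxth, hxv⟩

/-- Two strong elements of the normalizer are conjugate only inside it. -/
theorem mem_of_strong (c : Ctx p W) {e g : G} (he : Strong p (normalizer (W : Set G)) e)
    (he' : Strong p (normalizer (W : Set G)) (g * e * g⁻¹)) : g ∈ normalizer (W : Set G) := by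
  set M := normalizer (W : Set G) with hM
  set M' := M.map (MulAut.conj g).toMonoidHom with hM'
  have hC : centralizer ({g * e * g⁻¹} : Set G) ≤ M' := fun x hx => by
    refine ⟨g⁻¹ * x * g, c.centralizer_le he (mem_centralizer_singleton_iff.mpr ?_), by
      simp [mul_assoc]⟩
    have h1 := mem_centralizer_singleton_iff.mp hx
    calc g⁻¹ * x * g * e = g⁻¹ * (x * (g * e * g⁻¹)) * g := by group
      _ = g⁻¹ * ((g * e * g⁻¹) * x) * g := by rw [h1]
      _ = e * (g⁻¹ * x * g) := by group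
  obtain ⟨-, B, hBM, hB, hB3, heB⟩ := he'
  have hBM' : B ≤ M' := fun b hb =>
    hC (mem_centralizer_singleton_iff.mpr (elem_commute hB hb heB))
  obtain ⟨T, hBT, hT⟩ := exists_sylowOf_ge (le_inf hBM hBM') (H47.isPGroup_of_elementaryAbelian hB)
  set T₀ := T.map (MulAut.conj g⁻¹).toMonoidHom with hT₀
  have hT₀M : T₀ ≤ M := by
    refine (Subgroup.map_mono (hT.1.trans inf_le_right)).trans ?_
    rw [hM', Coprime.map_conj_map_conj, inv_mul_cancel, Coprime.map_conj_one]
  have hT₀3 : Rank3 p T₀ := by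
    refine ⟨B.map (MulAut.conj g⁻¹).toMonoidHom, Subgroup.map_mono hBT, ⟨⟨⟨?_⟩⟩, ?_⟩,
      by rwa [Coprime.card_map_conj]⟩
    · rintro ⟨_, a, ha, rfl⟩ ⟨_, b, hb, rfl⟩
      refine Subtype.ext ?_
      show (MulAut.conj g⁻¹).toMonoidHom a * (MulAut.conj g⁻¹).toMonoidHom b = _
      rw [← map_mul, elem_commute hB ha hb, map_mul]; rfl
    · rintro _ ⟨a, ha, rfl⟩
      rw [← map_pow, hB.2 a ha, map_one]
  have hTn : normalizer (T : Set G) ⊓ ⊤ ≤ M ⊓ M' := by
    rintro x ⟨hx, -⟩
    refine ⟨c.normalizer_le (hT.1.trans inf_le_left) ⟨B, hBT, hB, hB3⟩ hx, g⁻¹ * x * g,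
      c.normalizer_le hT₀M hT₀3 (Coprime.mem_normalizer_of_map_conj ?_), by simp [mul_assoc]⟩
    rw [hT₀, Coprime.map_conj_map_conj, show g⁻¹ * x * g * g⁻¹ = g⁻¹ * x by group,
      ← Coprime.map_conj_map_conj, Coprime.map_conj_eq hx]
  have hTtop : H40.IsSylowOf p T ⊤ := isSylowOf_of_normalizer
    (show H40.IsSylowOf p T (M ⊓ M' ⊓ ⊤) by rwa [inf_top_eq]) hTn
  obtain ⟨P₁, hTP₁, hP₁M, -⟩ := c.exists_sylow hT.2.1 (hT.1.trans inf_le_left)
  obtain ⟨P₂, hTP₂, hP₂M, -⟩ := c.exists_sylow (hT.2.1.map _) hT₀M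
  have h1 : T = (P₁ : Subgroup G) := hTtop.eq_of_le P₁.isPGroup' hTP₁ le_top
  have h2 : T₀ = (P₂ : Subgroup G) := eq_of_le_of_card_ge hTP₂ (by
    rw [hT₀, Coprime.card_map_conj, h1, Sylow.card_eq_multiplicity, Sylow.card_eq_multiplicity])
  obtain ⟨m, hm⟩ := MulAction.exists_smul_eq M (P₂.subtype hP₂M) (P₁.subtype hP₁M)
  have h3 : T₀.map (MulAut.conj (m : G)).toMonoidHom = T := by
    rw [h1, h2]
    refine eq_of_le_of_card_ge ?_ (by
      rw [Coprime.card_map_conj, Sylow.card_eq_multiplicity, Sylow.card_eq_multiplicity])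
    rintro _ ⟨x, hx, rfl⟩
    have h4 : MulAut.conj m ⟨x, hP₂M hx⟩ ∈ ((m • P₂.subtype hP₂M : Sylow p M) : Subgroup M) :=
      Subgroup.smul_mem_pointwise_smul _ _ _ (show (⟨x, hP₂M hx⟩ : M) ∈ _ from hx)
    rw [hm] at h4
    exact h4
  rw [hT₀, Coprime.map_conj_map_conj] at h3
  have h5 : (m : G) * g⁻¹ ∈ M := c.normalizer_le (hT.1.trans inf_le_left) ⟨B, hBT, hB, hB3⟩
    (Coprime.mem_normalizer_of_map_conj h3)
  simpa using inv_mem (mul_mem (inv_mem m.2) h5)

/-- A pair `z, y` with `z` central in a Sylow subgroup and `y` not strong. -/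
theorem mem_of_pair (c : Ctx p W) (P : Sylow p G) (hPM : (P : Subgroup G) ≤ normalizer (W : Set G))
    (hP3 : Rank3 p (P : Subgroup G)) {z y n : G} (hz : z ∈ (P : Subgroup G)) (hzo : orderOf z = p)
    (hzc : ∀ x ∈ (P : Subgroup G), x * z = z * x) (hy : y ∈ (P : Subgroup G))
    (hyo : orderOf y = p) (hys : ¬ Strong p (normalizer (W : Set G)) y)
    (hn : n ∈ normalizer ((zpowers z ⊔ zpowers y : Subgroup G) : Set G)) :
    n ∈ normalizer (W : Set G) := by
  set M := normalizer (W : Set G) with hM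
  set V := zpowers z ⊔ zpowers y with hV
  have hzp : z ^ p = 1 := hzo ▸ pow_orderOf_eq_one z
  have hyp' : y ^ p = 1 := hyo ▸ pow_orderOf_eq_one y
  have hzS : Strong p M z := c.strong_of_central hPM hP3 hz hzo hzc
  have hVe : Cfsg.IsElementaryAbelian p V :=
    elemAb_sup (elemAb_zpowers hzp) (elemAb_zpowers hyp') fun a ha b hb =>
      (commute_zpowers hzc b (zpowers_le.mpr hy hb) a ha).symm
  have hVP : V ≤ (P : Subgroup G) := sup_le (zpowers_le.mpr hz) (zpowers_le.mpr hy)
  have hzV : z ∈ V := mem_sup_left (mem_zpowers z)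
  have hyV : y ∈ V := mem_sup_right (mem_zpowers y)
  have hVc : Nat.card V = p ^ 2 := by
    refine le_antisymm (card_le_sq_of_not_strong hyo hys (hVP.trans hPM) hVe hyV) ?_
    have hlt : zpowers z < V := by
      refine lt_of_le_of_ne le_sup_left fun h => hys ?_
      obtain ⟨-, B, hBM, hB, hB3, hzB⟩ := hzS
      exact ⟨hyo, B, hBM, hB, hB3, zpowers_le.mpr hzB (h ▸ hyV)⟩
    have := card_mul_le (H47.isPGroup_of_elementaryAbelian hVe) hlt
    rwa [Nat.card_zpowers, hzo, ← pow_two] at this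
  have hfull : ∀ x ∈ M, orderOf x = p → (∀ v ∈ V, v * x = x * v) → x ∈ V := by
    intro x hx hxo hxc
    refine mem_of_card_le hVe hVc.ge (hxo ▸ pow_orderOf_eq_one x) hxc
      (card_le_sq_of_not_strong hyo hys (sup_le (hVP.trans hPM) (zpowers_le.mpr hx)) ?_
        (mem_sup_left hyV))
    refine elemAb_sup hVe (elemAb_zpowers (hxo ▸ pow_orderOf_eq_one x)) fun v hv w hw => ?_
    obtain ⟨i, rfl⟩ := mem_zpowers_iff.mp hw
    exact ((show Commute v x from hxc v hv).zpow_right i).eq
  have hzC : centralizer ({z} : Set G) ≤ M := c.centralizer_le hzS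
  obtain ⟨E, hEP, hEn, hE, hEc⟩ := exists_plane c.odd P.isPGroup' hP3
  obtain ⟨B₀, hB₀P, hB₀, hB₀3⟩ := hP3
  obtain ⟨B, hBP, hB, hB3, hEB, -⟩ := exists_join_plane P.isPGroup' hEP hEn hE hEc hB₀P hB₀ hB₀3
  have hBM : B ≤ M := hBP.trans hPM
  have hES : ∀ a ∈ E, a ≠ 1 → Strong p M a := fun a ha h1 =>
    ⟨elem_order hE ha h1, B, hBM, hB, hB3, hEB ha⟩
  obtain ⟨a, haE, hanz⟩ := SetLike.not_le_iff_exists.mp (not_le_zpowers hEc.ge hzp)
  have hap : a ^ p = 1 := hE.2 a haE
  have ha1 : a ≠ 1 := fun h => hanz (h ▸ one_mem _)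
  have hao : orderOf a = p := elem_order hE haE ha1
  have hay : ∀ v ∈ V, v ∉ zpowers z → v * a ≠ a * v := by
    intro v hv hvz hva
    have hVv : V = zpowers z ⊔ zpowers v := by
      refine (eq_of_le_of_card_ge (sup_le (zpowers_le.mpr hzV) (zpowers_le.mpr hv)) ?_).symm
      have hlt : zpowers z < zpowers z ⊔ zpowers v :=
        lt_of_le_of_ne le_sup_left fun h => hvz (h ▸ mem_sup_right (mem_zpowers v))
      have := card_mul_le ((H47.isPGroup_of_elementaryAbelian hVe).to_le
        (sup_le (zpowers_le.mpr hzV) (zpowers_le.mpr hv))) hlt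
      rwa [Nat.card_zpowers, hzo, ← pow_two, ← hVc] at this
    have hle : V ≤ centralizer ({a} : Set G) := hVv ▸ sup_le
      (zpowers_le.mpr (mem_centralizer_singleton_iff.mpr (hzc a (hEP haE)).symm))
      (zpowers_le.mpr (mem_centralizer_singleton_iff.mpr hva))
    have haV : a ∈ V := hfull a (hPM (hEP haE)) hao
      fun w hw => mem_centralizer_singleton_iff.mp (hle hw)
    have hVa : V = zpowers z ⊔ zpowers a := by
      refine (eq_of_le_of_card_ge (sup_le (zpowers_le.mpr hzV) (zpowers_le.mpr haV)) ?_).symm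
      have hlt : zpowers z < zpowers z ⊔ zpowers a :=
        lt_of_le_of_ne le_sup_left fun h => hanz (h ▸ mem_sup_right (mem_zpowers a))
      have := card_mul_le ((H47.isPGroup_of_elementaryAbelian hVe).to_le
        (sup_le (zpowers_le.mpr hzV) (zpowers_le.mpr haV))) hlt
      rwa [Nat.card_zpowers, hzo, ← pow_two, ← hVc] at this
    have hle2 : V ≤ B ⊔ zpowers z := hVa ▸ sup_le le_sup_right
      (zpowers_le.mpr (mem_sup_left (hEB haE)))
    exact hys ⟨hyo, B ⊔ zpowers z, sup_le hBM (zpowers_le.mpr (hPM hz)),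
      elemAb_sup hB (elemAb_zpowers hzp) fun b hb w hw => commute_zpowers hzc b (hBP hb) w hw,
      hB3.trans (Nat.le_of_dvd Nat.card_pos (card_dvd_of_le le_sup_left)), hle2 hyV⟩
  have hVN : ∀ v ∈ V, V ≤ centralizer ({v} : Set G) := fun v hv w hw =>
    mem_centralizer_singleton_iff.mpr (elem_commute hVe hw hv)
  have hWM : W ≤ M := Subgroup.le_normalizer
  have hth : ∀ v ∈ V, v ≠ 1 → th p v ≤ W := by
    intro v hv hv1
    by_cases hvz : v ∈ zpowers z
    · obtain ⟨hzo', B', hB'M, hB', hB'3, hzB⟩ := hzS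
      exact c.th_strong_le ⟨elem_order hVe hv hv1, B', hB'M, hB', hB'3, zpowers_le.mpr hzB hvz⟩
    have hvo : orderOf v = p := elem_order hVe hv hv1
    have hthM : th p v ≤ M := by
      intro w hw
      have hcop : (orderOf v).Coprime (orderOf w) := by
        rw [hvo]
        refine hp.out.coprime_iff_not_dvd.mpr fun hd => not_dvd_th v (hd.trans ?_)
        exact Subgroup.orderOf_dvd_natCard _ hw
      have hvw : Commute v w := (mem_centralizer_singleton_iff.mp (th_le v hw)).symm
      set K := closure ({v * w, a} : Set G) with hK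
      have hvK : v ∈ K := zpowers_le.mpr (mem_pair_left _ _) (mem_zpowers_mul hvw hcop)
      have hwK : w ∈ K := zpowers_le.mpr (mem_pair_left _ _) (mem_zpowers_mul' hvw hcop)
      have haK : a ∈ K := mem_pair_right _ _
      have hvP : v ∈ (P : Subgroup G) := hVP hv
      have hd : v * a * v⁻¹ ∈ E := (mem_normalizer_iff.mp (hEn hvP) a).mp haE
      have hda : v * a * v⁻¹ ∉ zpowers a := by
        intro hmem
        set N := zpowers a ⊔ zpowers v
        have hNp : IsPGroup p N :=
          P.isPGroup'.to_le (sup_le (zpowers_le.mpr (hEP haE)) (zpowers_le.mpr hvP))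
        have hvn : v ∈ normalizer (zpowers a : Set G) := by
          refine Coprime.mem_normalizer_of_map_conj (eq_of_le_of_card_ge ?_
            (by rw [Coprime.card_map_conj]))
          rw [MonoidHom.map_zpowers, zpowers_le]
          exact hmem
        haveI : ((zpowers a).subgroupOf N).Normal := normal_subgroupOf_of_le_normalizer
          (sup_le Subgroup.le_normalizer (zpowers_le.mpr hvn))
        have hc := PGroups.le_center_of_card_eq hNp ((zpowers a).subgroupOf N)
          (by rw [Nat.card_congr (subgroupOfEquivOfLe le_sup_left).toEquiv, Nat.card_zpowers, hao])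
        exact hay v hv hvz (congrArg Subtype.val (Subgroup.mem_center_iff.mp
          (hc (show (⟨a, mem_sup_left (mem_zpowers a)⟩ : N) ∈ _ from mem_zpowers a))
          ⟨v, mem_sup_right (mem_zpowers v)⟩))
      have hEK : E ≤ K := by
        have hle : zpowers a ⊔ zpowers (v * a * v⁻¹) ≤ E :=
          sup_le (zpowers_le.mpr haE) (zpowers_le.mpr hd)
        have hlt : zpowers a < zpowers a ⊔ zpowers (v * a * v⁻¹) :=
          lt_of_le_of_ne le_sup_left fun h => hda (h ▸ mem_sup_right (mem_zpowers _))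
        have h1 := card_mul_le ((H47.isPGroup_of_elementaryAbelian hE).to_le hle) hlt
        rw [Nat.card_zpowers, hao, ← pow_two, ← hEc] at h1
        rw [← eq_of_le_of_card_ge hle h1]
        exact sup_le (zpowers_le.mpr haK) (zpowers_le.mpr (mul_mem (mul_mem hvK haK) (inv_mem hvK)))
      have hKs : Group.IsSolvable K := c.hyp.pair_solvable _ _
      set O := Signalizer.core p K with hO
      have hEO : E ≤ normalizer (O : Set G) := hEK.trans (Signalizer.le_normalizer_core K)
      have hOM : O ≤ M := by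
        refine le_trans (H47.le_of_fixed_le hE hEc hEO (Signalizer.not_dvd_card_core K)
          (W := O ⊓ M) ?_ fun e he h1 => le_inf inf_le_left
            (inf_le_right.trans (c.centralizer_le (hES e he h1)))) inf_le_right
        exact (le_inf hEO ((hEP.trans hPM).trans Subgroup.le_normalizer)).trans
          inf_normalizer_le_normalizer_inf
      refine hOM (le_core_of_centralized hKs (zpowers_le.mpr hvK)
        ((elemAb_zpowers (hvo ▸ pow_orderOf_eq_one v)) |> H47.isPGroup_of_elementaryAbelian)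
        (inf_le_right : th p v ⊓ K ≤ K)
        (fun hd' => not_dvd_th v (hd'.trans (card_dvd_of_le inf_le_left))) ?_ ?_ ⟨hw, hwK⟩)
      · rw [zpowers_eq_closure, centralizer_closure]
        exact inf_le_left.trans (th_le v)
      · rw [zpowers_eq_closure, centralizer_closure]
        exact (le_inf (inf_le_right.trans (centralizer_le_normalizer_th v))
          (inf_le_left.trans Subgroup.le_normalizer)).trans inf_normalizer_le_normalizer_inf
    exact (le_core_of_invariant c.odd c.solvable (hVP.trans hPM)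
      (H47.isPGroup_of_elementaryAbelian hVe) hfull hthM (not_dvd_th v)
      ((hVN v hv).trans (centralizer_le_normalizer_th v))).trans c.core_le
  have hsub : sig p V ≤ W := iSup_le fun v => hth v v.2.1 v.2.2
  have hW : W ≤ sig p V := by
    refine H47.le_of_fixed_le hVe hVc (hVP.trans hPM) c.not_dvd
      (fun v hv => le_normalizer_sig hVe hv) fun v hv h1 => ?_
    refine le_trans ?_ (le_sig hv h1)
    rw [th_eq]
    refine le_core_of_invariant c.odd (c.hyp.centralizer_solvable h1) (hVN v hv)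
      (H47.isPGroup_of_elementaryAbelian hVe) ?_ inf_le_right
      (fun hd => c.not_dvd (hd.trans (card_dvd_of_le inf_le_left)))
      ((le_inf (hVP.trans hPM) ((hVN v hv).trans Subgroup.le_normalizer)).trans
        inf_normalizer_le_normalizer_inf)
    intro x _ hxo hxc
    exact hfull x (hzC (mem_centralizer_singleton_iff.mpr (hxc z hzV).symm)) hxo hxc
  refine Coprime.mem_normalizer_of_map_conj ?_
  rw [le_antisymm hW hsub, ← sig_conj, Coprime.map_conj_eq hn]

/-- The normalizer of a noncyclic `p`-subgroup of the normalizer lies in it. -/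
theorem normalizer_le_of_noncyclic (c : Ctx p W) {R : Subgroup G} (hR : IsPGroup p R)
    (hRM : R ≤ normalizer (W : Set G)) (hnc : ¬ IsCyclic R) :
    normalizer (R : Set G) ≤ normalizer (W : Set G) := by
  classical
  set M := normalizer (W : Set G) with hM
  intro n hn
  by_cases hR3 : Rank3 p R
  · exact c.normalizer_le hRM hR3 hn
  let X : Subgroup G :=
    { carrier := {x | x ∈ R ∧ (∀ r ∈ R, r * x = x * r) ∧ x ^ p = 1}
      one_mem' := ⟨one_mem _, fun r _ => by simp, one_pow p⟩
      mul_mem' := fun {a b} ha hb => ⟨mul_mem ha.1 hb.1, fun r hr => by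
          rw [← mul_assoc, ha.2.1 r hr, mul_assoc, hb.2.1 r hr, mul_assoc], by
        rw [(show Commute a b from (hb.2.1 a ha.1)).mul_pow, ha.2.2, hb.2.2, one_mul]⟩
      inv_mem' := fun {a} ha => ⟨inv_mem ha.1, fun r hr =>
          ((show Commute r a from ha.2.1 r hr).inv_right).eq, by rw [inv_pow, ha.2.2, inv_one]⟩ }
  have hXe : Cfsg.IsElementaryAbelian p X :=
    ⟨⟨⟨fun a b => Subtype.ext (b.2.2.1 a a.2.1)⟩⟩, fun a ha => ha.2.2⟩
  have hXR : X ≤ R := fun x hx => hx.1
  have hnX : n ∈ normalizer (X : Set G) := by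
    refine mem_normalizer_iff.mpr fun x => ?_
    have h := mem_normalizer_iff.mp hn
    constructor
    · rintro ⟨h1, h2, h3⟩
      refine ⟨(h x).mp h1, fun r hr => ?_, by rw [conj_pow, h3, mul_one, mul_inv_cancel]⟩
      have hr' : n⁻¹ * r * n ∈ R := (mem_normalizer_iff''.mp hn r).mp hr
      calc r * (n * x * n⁻¹) = n * ((n⁻¹ * r * n) * x) * n⁻¹ := by group
        _ = n * (x * (n⁻¹ * r * n)) * n⁻¹ := by rw [h2 _ hr']
        _ = n * x * n⁻¹ * r := by group
    · rintro ⟨h1, h2, h3⟩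
      refine ⟨(h x).mpr h1, fun r hr => ?_, ?_⟩
      · calc r * x = n⁻¹ * ((n * r * n⁻¹) * (n * x * n⁻¹)) * n := by group
          _ = n⁻¹ * ((n * x * n⁻¹) * (n * r * n⁻¹)) * n := by rw [h2 _ ((h r).mp hr)]
          _ = x * r := by group
      · rw [conj_pow] at h3
        exact conj_eq_one_iff.mp h3
  obtain ⟨P, hRP, hPM, hP3⟩ := c.exists_sylow hR hRM
  by_cases hall : ∀ x ∈ X, x ≠ 1 → Strong p M x
  · obtain ⟨x, hx, hxo, hxc⟩ := exists_central hR fun h => hnc (by
      subst h
      exact isCyclic_of_subsingleton)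
    have hxX : x ∈ X := ⟨hx, hxc, hxo ▸ pow_orderOf_eq_one x⟩
    exact c.mem_of_strong (hall x hxX (elem_ne_one hxo))
      (hall _ ((mem_normalizer_iff.mp hnX x).mp hxX)
        fun h => elem_ne_one hxo (conj_eq_one_iff.mp h))
  push Not at hall
  obtain ⟨y, hyX, hy1, hys⟩ := hall
  have hyo : orderOf y = p := elem_order hXe hyX hy1
  obtain ⟨z, hzP, hzo, hzc⟩ := exists_central P.isPGroup' (rank3_ne_bot hP3)
  have hzp : z ^ p = 1 := hzo ▸ pow_orderOf_eq_one z
  have hyp' : y ^ p = 1 := hyo ▸ pow_orderOf_eq_one y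
  obtain ⟨L, -, hLc, hLe, hL2⟩ := PGroups.exists_normal_elementary_sq hR c.odd hnc
  set L' := L.map R.subtype with hL'
  have hL'e : Cfsg.IsElementaryAbelian p L' := by
    refine ⟨⟨⟨fun a b => Subtype.ext ?_⟩⟩, ?_⟩
    · obtain ⟨u, hu, hua⟩ := a.2
      obtain ⟨v, hv, hvb⟩ := b.2
      show (a : G) * b = b * a
      rw [← hua, ← hvb, ← map_mul, ← map_mul, PGroups.comm_of_isMulCommutative hLc hu hv]
    · rintro _ ⟨u, hu, rfl⟩
      rw [← map_pow, hLe u hu, map_one]
  have hL'c : Nat.card L' = p ^ 2 := by rw [hL', card_map_of_injective R.subtype_injective, hL2]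
  have hL'R : L' ≤ R := map_subtype_le _
  have hyL : y ∈ L' := mem_of_card_le hL'e hL'c.ge hyp' (fun l hl => hyX.2.1 l (hL'R hl))
    (card_le_sq_of_not_rank3 hR3 (sup_le hL'R (zpowers_le.mpr hyX.1))
      (elemAb_sup hL'e (elemAb_zpowers hyp') fun l hl w hw =>
        commute_zpowers (fun r hr => hyX.2.1 r hr) l (hL'R hl) w hw))
  have hzL : z ∈ L' := mem_of_card_le hL'e hL'c.ge hzp (fun l hl => hzc l (hRP (hL'R hl)))
    (card_le_sq_of_not_strong hyo hys
      (sup_le (hL'R.trans hRM) (zpowers_le.mpr (hPM hzP)))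
      (elemAb_sup hL'e (elemAb_zpowers hzp) fun l hl w hw =>
        commute_zpowers hzc l (hRP (hL'R hl)) w hw) (mem_sup_left hyL))
  have hzX : z ∈ X := ⟨hL'R hzL, fun r hr => hzc r (hRP hr), hzp⟩
  have hzS := c.strong_of_central hPM hP3 hzP hzo hzc
  have hXV : X = zpowers z ⊔ zpowers y := by
    refine (eq_of_le_of_card_ge (sup_le (zpowers_le.mpr hzX) (zpowers_le.mpr hyX)) ?_).symm
    refine (card_le_sq_of_not_strong hyo hys (hXR.trans hRM) hXe hyX).trans ?_
    have hlt : zpowers z < zpowers z ⊔ zpowers y := by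
      refine lt_of_le_of_ne le_sup_left fun h => hys ?_
      obtain ⟨-, B, hBM, hB, hB3, hzB⟩ := hzS
      exact ⟨hyo, B, hBM, hB, hB3, zpowers_le.mpr hzB (h ▸ mem_sup_right (mem_zpowers y))⟩
    have := card_mul_le ((H47.isPGroup_of_elementaryAbelian hXe).to_le
      (sup_le (zpowers_le.mpr hzX) (zpowers_le.mpr hyX))) hlt
    rwa [Nat.card_zpowers, hzo, ← pow_two] at this
  exact c.mem_of_pair P hPM hP3 hzP hzo hzc (hRP hyX.1) hyo hys (hXV ▸ hnX)

end Ctx

end Cfsg.Agent.H63.TwoGen.OddRank
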